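import Cfsg.Agent.OM.Cu.Defs
import Cfsg.Agent.BZ.L.TA.Dat

/-!
# OM / Cu : bases (helper60)

`boxBase : BoxRs → BoxBase`, `boxDt : BoxDt`.
-/

set_option autoImplicit false
set_option linter.unusedSectionVars false

namespace Cfsg.Agent.OM.Cu

open Cfsg Matrix Cfsg.Agent.DL Cfsg.Agent.HZ.L Cfsg.Agent.BZ.TA Cfsg.Agent.Tits.Roots Cfsg.Agent.Nodes.Coroot

namespace BaseA

variable {R I : Type} [Fintype R] [DecidableEq R] [Fintype I] [DecidableEq I]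

/-- the Cartan matrix of a family of pairs -/
def Cf (s : I → Vec R × Vec R) : Mat I := Matrix.of fun i j => (s j).1 ⬝ᵥ (s i).2

/-- the columns are the coroots -/
def Pf (s : I → Vec R × Vec R) : Matrix R I ℤ := Matrix.of fun r i => (s i).2 r

theorem rfm_vec (a : Vec R × Vec R) (v : Vec R) : rfm a *ᵥ v = v - (a.1 ⬝ᵥ v) • a.2 := by
  rw [rfm, sub_mulVec, one_mulVec, vecMulVec_mulVec, op_smul_eq_smul]

theorem rfm_sq {a : Vec R × Vec R} (h : a.1 ⬝ᵥ a.2 = 2) : rfm a * rfm a = 1 := by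
  rw [rfm, mul_sub, sub_mul, sub_mul, vecMulVec_mul_vecMulVec, h, vecMulVec_smul, Matrix.mul_one, Matrix.mul_one,
    Matrix.one_mul, two_smul]
  abel

variable (s : I → Vec R × Vec R) {Ψ : RS R}

theorem Pf_single (i : I) : Pf s *ᵥ Pi.single i 1 = (s i).2 := mulVec_single_one _ _

theorem Pf_row (i : I) : (s i).1 ᵥ* Pf s = (sp (Cf s) i).1 := rfl

theorem rfm_Pf (i : I) : rfm (s i) * Pf s = Pf s * rfm (sp (Cf s) i) := by
  rw [rfm, rfm, Matrix.sub_mul, Matrix.mul_sub, Matrix.one_mul, Matrix.mul_one, vecMulVec_mul, mul_vecMulVec, Pf_row]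
  exact congrArg (fun v => Pf s - vecMulVec v _) (Pf_single s i).symm

theorem vecMul_Cf (β : Vec I) (i : I) : (β ᵥ* Cf s) i = (s i).1 ⬝ᵥ (Pf s *ᵥ β) := by
  rw [dotProduct_mulVec, dotProduct_comm]
  rfl

/-- the pair comes from the standard system -/
def Dn (b : Vec R × Vec R) : Prop := ∃ a ∈ Rc (Cf s), Pf s *ᵥ a.2 = b.2 ∧ b.1 ᵥ* Pf s = a.1

theorem dn_s (i : I) : Dn s (s i) :=
  ⟨sp (Cf s) i, ⟨1, one_mem _, i, one_mulVec _, vecMul_one _⟩, Pf_single s i, Pf_row s i⟩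

variable {s}

theorem Dn.step {b b' : Vec R × Vec R} (h : Dn s b) (i : I) (h1 : rfm (s i) *ᵥ b.2 = b'.2) (h2 : b'.1 ᵥ* rfm (s i) = b.1) :
    Dn s b' := by
  obtain ⟨a, ⟨w, hw, j, a1, a2⟩, a3, a4⟩ := h
  refine ⟨(b'.1 ᵥ* Pf s, rfm (sp (Cf s) i) *ᵥ a.2), ⟨_, mul_mem (rfm_mem ⟨i, rfl⟩) hw, j, ?_, ?_⟩, ?_, rfl⟩
  · rw [← mulVec_mulVec, a1]
  · rw [← vecMul_vecMul, vecMul_vecMul b'.1, ← rfm_Pf, ← vecMul_vecMul, h2, a4, a2]
  · rw [mulVec_mulVec, ← rfm_Pf, ← mulVec_mulVec, a3, h1]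

theorem tr_of {d : I → ℤ} (h : Car (Cf s) d) (hs : ∀ i, s i ∈ Ψ) (ext : ∀ b ∈ Ψ, ∀ b' ∈ Ψ, b.2 = b'.2 → b = b')
    (nm : ∀ b ∈ Ψ, Nm (rfm b) Ψ) (dn : ∀ b ∈ Ψ, Dn s b) : Tr (Pf s) (Rc (Cf s)) Ψ := by
  refine ⟨fun v hv => by_contra fun h0 => (h.pos v h0).ne' ?_, ?_, dn, ext, nm⟩
  · exact Finset.sum_eq_zero fun i _ => by rw [vecMul_Cf, hv, dotProduct_zero, mul_zero]
  rintro ⟨x, y⟩ ⟨w, hw, j, rfl, a2⟩
  induction hw using Submonoid.closure_induction_left generalizing x with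
  | one => exact ⟨s j, hs j, by rw [one_mulVec]; exact Pf_single s j, (Pf_row s j).trans (a2.symm.trans (vecMul_one _))⟩
  | mul_left _ hu w _ ih =>
    obtain ⟨_, ⟨i, rfl⟩, rfl⟩ := hu
    obtain ⟨b, b1, b2, b3⟩ := ih (x ᵥ* rfm (sp (Cf s) i)) ((vecMul_vecMul _ _ _).trans a2)
    obtain ⟨c, c1, c2, c3⟩ := nm _ (hs i) b b1
    refine ⟨c, c1, by rw [← mulVec_mulVec, mulVec_mulVec _ (Pf s), ← rfm_Pf, ← mulVec_mulVec, b2, c2], ?_⟩
    have k := rfm_sq (a := sp (Cf s) i) ((dotProduct_single_one _ _).trans (h.diag i))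
    rw [← c3, vecMul_vecMul, rfm_Pf, ← vecMul_vecMul] at b3
    have k2 := congrArg (· ᵥ* rfm (sp (Cf s) i)) b3
    simpa only [vecMul_vecMul, Matrix.mul_assoc, k, Matrix.mul_one, vecMul_one] using k2

theorem car_sub {J : Type} [Fintype J] [DecidableEq J] {C : Mat I} {d : I → ℤ} (h : Car C d) (e : J ≃ I) :
    Car (C.submatrix e e) (d ∘ e) where
  diag i := h.diag _
  off _ _ k := h.off _ _ (e.injective.ne k)
  dpos i := h.dpos _
  sym i j := h.sym _ _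
  pos β k := by
    refine (h.pos (β ∘ e.symm) fun k' => k (funext fun i => by simpa using congrFun k' (e i))).trans_eq ?_
    rw [submatrix_vecMul_equiv, ← Equiv.sum_comp e]
    simp

variable {J : Type} [Fintype J] [DecidableEq J] {C : Mat I} {d : I → ℤ} {t : J → Vec I × Vec I}

theorem fm_P (β : Vec J) (v : Vec I) : fm C d (Pf t *ᵥ β) v = ∑ j, β j * fm C d (t j).2 v := by
  simp only [fm, mulVec, dotProduct, Pf, of_apply, Finset.sum_mul, Finset.mul_sum]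
  rw [Finset.sum_comm]
  exact Finset.sum_congr rfl fun _ _ => Finset.sum_congr rfl fun _ _ => by ring

theorem ne_zero (H : Rs C d) {a : Vec I × Vec I} (ha : a ∈ Rc C) : a.2 ≠ 0 := fun h => by
  have := H.two a ha
  rw [h, dotProduct_zero] at this
  omega

theorem ht_pos (H : Rs C d) {a : Vec I × Vec I} (ha : a ∈ Rc C) (h : 0 ≤ a.2) : 0 < ∑ i, a.2 i :=
  let ⟨i, hi⟩ := Function.ne_iff.1 (ne_zero H ha)
  Finset.sum_pos' (fun i _ => h i) ⟨i, Finset.mem_univ _, lt_of_le_of_ne (h i) hi.symm⟩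

theorem indep (hC : Car C d) (H : Rs C d) (h1 : ∀ j, t j ∈ Rc C) (h2 : ∀ j, 0 ≤ (t j).2)
    (h3 : ∀ i j, i ≠ j → fm C d (t i).2 (t j).2 ≤ 0) {β : Vec J} (h : Pf t *ᵥ β = 0) : β = 0 := by
  have k0 : ∀ c : Vec J, 0 ≤ c → Pf t *ᵥ c = 0 → c = 0 := fun c hc h0 => funext fun j => by
    obtain ⟨i, hi⟩ := Function.ne_iff.1 (ne_zero H (h1 j))
    exact (mul_eq_zero.1 ((Finset.sum_eq_zero_iff_of_nonneg fun k _ => mul_nonneg (h2 k i) (hc k)).1 (congrFun h0 i) j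
      (Finset.mem_univ j))).resolve_left hi
  have k1 : Pf t *ᵥ β⁺ = Pf t *ᵥ β⁻ := by rw [← sub_eq_zero, ← mulVec_sub, posPart_sub_negPart, h]
  have k2 : fm C d (Pf t *ᵥ β⁺) (Pf t *ᵥ β⁻) ≤ 0 := by
    rw [fm_P]
    refine Finset.sum_nonpos fun i _ => ?_
    rw [H.comm, fm_P, Finset.mul_sum]
    refine Finset.sum_nonpos fun j _ => ?_
    rw [← mul_assoc]
    by_cases e : j = i
    · subst e
      have : β⁺ j * β⁻ j = 0 := by
        show (β j)⁺ * (β j)⁻ = 0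
        rcases le_total 0 (β j) with h4 | h4
        · rw [negPart_eq_zero.2 h4, mul_zero]
        · rw [posPart_eq_zero.2 h4, zero_mul]
      rw [this, zero_mul]
    · exact mul_nonpos_of_nonneg_of_nonpos (mul_nonneg (posPart_nonneg β i) (negPart_nonneg β j)) (h3 j i e)
  have k3 : Pf t *ᵥ β⁻ = 0 := by_contra fun h4 => absurd (hC.pos _ h4) (not_lt.2 (k1 ▸ k2 :))
  rw [← posPart_sub_negPart β, k0 _ (negPart_nonneg β) k3, k0 _ (posPart_nonneg β) (k1.trans k3), sub_zero]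

end BaseA

open BaseA

/-- **[Base]** -/
theorem boxBase (hR : BoxRs) : BoxBase := by
  intro I _ _ C d n τ hC
  have H := hR C d hC
  set Ψ := Zt (Rc C) n τ
  have nm : ∀ b ∈ Ψ, Nm (rfm b) Ψ := fun b hb a ha => by
    obtain ⟨c, c1, c2⟩ := H.nm _ (H.ww ▸ rfm_mem hb.1) a ha.1
    refine ⟨c, ⟨c1, ?_⟩, c2⟩
    rw [← c2.1, rfm_vec, dotProduct_sub, dotProduct_smul]
    exact ha.2.sub (hb.2.mul_left _)
  have ng : ∀ b ∈ Ψ, -b ∈ Ψ := fun b hb => ⟨H.neg b hb.1, by rw [Prod.snd_neg, dotProduct_neg]; exact hb.2.neg_right⟩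
  obtain ⟨m, t, t1, t2⟩ := (H.fin.subset fun a ha => ha.1.1 : {a | a ∈ Ψ ∧ 0 ≤ a.2 ∧
    ∀ b ∈ Ψ, ∀ c ∈ Ψ, 0 ≤ b.2 → 0 ≤ c.2 → a.2 ≠ b.2 + c.2}.Finite).fin_param
  have t3 := fun j => t2.subset ⟨j, rfl⟩
  choose d' d1 d2 using fun j => H.len _ (t3 j).1.1
  have off : ∀ i j, i ≠ j → (t i).1 ⬝ᵥ (t j).2 ≤ 0 := fun i j hij => not_lt.1 fun h => by
    obtain ⟨c, c1, c2⟩ := H.sub _ (t3 i).1.1 _ (t3 j).1.1 (t1.ne hij.symm) h
    have c3 : c ∈ Ψ := ⟨c1, by rw [c2, dotProduct_sub]; exact (t3 i).1.2.sub (t3 j).1.2⟩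
    rcases H.pn c c1 with c4 | c4
    · exact (t3 i).2.2 _ c3 _ (t3 j).1 c4 (t3 j).2.1 (by rw [c2, sub_add_cancel])
    · exact (t3 j).2.2 _ (ng c c3) _ (t3 i).1 (neg_nonneg.2 c4) (t3 i).2.1 (by rw [Prod.snd_neg, c2, neg_sub, sub_add_cancel])
  have ind : ∀ β, Pf t *ᵥ β = 0 → β = 0 := fun β => indep hC H (fun j => (t3 j).1.1) (fun j => (t3 j).2.1) fun i j hij => by
    rw [d2]
    exact mul_nonpos_of_nonneg_of_nonpos (d1 i).le (off i j hij)
  have car : Car (Cf t) d' := ⟨fun i => H.two _ (t3 i).1.1, fun i j hij => off j i hij.symm, d1,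
    fun i j => (d2 j _).symm.trans ((H.comm _ _).trans (d2 i _)), fun β hβ => by
      refine (hC.pos _ fun h => hβ (ind β h)).trans_eq ((fm_P (C := C) (d := d) β _).trans ?_)
      exact Finset.sum_congr rfl fun j _ => by rw [d2, vecMul_Cf, mul_assoc]⟩
  have co : ∀ (k : ℕ) (a : Vec I × Vec I), a ∈ Ψ → 0 ≤ a.2 → ∑ i, a.2 i ≤ k → ∃ c, 0 ≤ c ∧ Pf t *ᵥ c = a.2 := fun k => by
    induction k with
    | zero => exact fun a ha h0 h1 => absurd (ht_pos H ha.1 h0) (not_lt.2 h1)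
    | succ k ih =>
      intro a ha h0 h1
      by_cases hi : ∀ b ∈ Ψ, ∀ c ∈ Ψ, 0 ≤ b.2 → 0 ≤ c.2 → a.2 ≠ b.2 + c.2
      · obtain ⟨j, rfl⟩ := t2.superset ⟨ha, h0, hi⟩
        exact ⟨_, Pi.single_nonneg.2 zero_le_one, Pf_single t j⟩
      · push Not at hi
        obtain ⟨b, b1, c, c1, b2, c2, e⟩ := hi
        have h2 := ht_pos H b1.1 b2
        have h3 := ht_pos H c1.1 c2
        simp only [e, Pi.add_apply, Finset.sum_add_distrib] at h1
        obtain ⟨x, x1, x2⟩ := ih b b1 b2 (by omega)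
        obtain ⟨y, y1, y2⟩ := ih c c1 c2 (by omega)
        exact ⟨x + y, add_nonneg x1 y1, by rw [mulVec_add, x2, y2, e]⟩
  have co' := fun a ha h0 => co _ a ha h0 (Int.self_le_toNat _)
  have dn : ∀ (k : ℕ) (b : Vec I × Vec I), b ∈ Ψ → 0 ≤ b.2 → ∑ i, b.2 i ≤ k → Dn t b := fun k => by
    induction k with
    | zero => exact fun a ha h0 h1 => absurd (ht_pos H ha.1 h0) (not_lt.2 h1)
    | succ k ih =>
      intro b hb h0 h1
      obtain ⟨c, c1, c2⟩ := co' b hb h0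
      have h2 : 0 < fm C d (Pf t *ᵥ c) b.2 := c2 ▸ hC.pos _ (c2 ▸ ne_zero H hb.1)
      rw [fm_P] at h2
      obtain ⟨i, -, h3⟩ := Finset.exists_lt_of_sum_lt (f := fun _ => (0 : ℤ)) (Finset.sum_const_zero.trans_lt h2)
      rw [d2] at h3
      have h4 : 0 < (t i).1 ⬝ᵥ b.2 := pos_of_mul_pos_right (pos_of_mul_pos_right h3 (c1 i)) (d1 i).le
      obtain ⟨b', b1, b2, b3⟩ := nm _ (t3 i).1 b hb
      have k := rfm_sq (H.two _ (t3 i).1.1)
      rcases H.pn b' b1.1 with h5 | h5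
      · refine (ih b' b1 h5 ?_).step i (by rw [← b2, mulVec_mulVec, k, one_mulVec]) (by rw [← b3, vecMul_vecMul, k, vecMul_one])
        have h6 := mul_pos h4 (ht_pos H (t3 i).1.1 (t3 i).2.1)
        simp only [← b2, rfm_vec, Pi.sub_apply, Pi.smul_apply, smul_eq_mul, Finset.sum_sub_distrib, ← Finset.mul_sum]
        omega
      · obtain ⟨x, x1, x2⟩ := co' _ (ng b' b1) (neg_nonneg.2 h5)
        have h6 := ind (c + x - ((t i).1 ⬝ᵥ b.2) • Pi.single i 1) (by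
          rw [mulVec_sub, mulVec_add, mulVec_smul, Pf_single, c2, x2, Prod.snd_neg, ← b2, rfm_vec]
          abel)
        have h7 : c = c i • Pi.single i 1 := funext fun j => by
          by_cases e : j = i
          · simp [e]
          · have h8 := congrFun h6 j
            have h9 := c1 j
            have h10 := x1 j
            simp only [Pi.sub_apply, Pi.add_apply, Pi.smul_apply, Pi.single_eq_of_ne e, smul_zero, Pi.zero_apply] at h8 h9 h10 ⊢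
            omega
        rcases H.red b hb.1 _ (t3 i).1.1 1 (c i) one_ne_zero (by rw [one_smul, ← c2, ← Pf_single, ← mulVec_smul, ← h7]) with e | e
        · exact e ▸ dn_s t i
        · exact absurd (le_antisymm (neg_nonneg.1 (e ▸ (t3 i).2.1 : 0 ≤ (-b).2)) h0) (ne_zero H hb.1)
  refine ⟨m, _, d', _, car, tr_of car (fun j => (t3 j).1) (fun b hb b' hb' => H.ext b hb.1 b' hb'.1) nm fun b hb => ?_⟩
  rcases H.pn b hb.1 with h | h
  · exact dn _ b hb h (Int.self_le_toNat _)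
  · obtain ⟨a, a1, a2, a3⟩ := dn _ _ (ng b hb) (neg_nonneg.2 h) (Int.self_le_toNat _)
    exact ⟨-a, (hR _ _ car).neg a a1, by rw [Prod.snd_neg, mulVec_neg, a2, Prod.snd_neg, neg_neg],
      by rw [Prod.fst_neg, ← a3, Prod.fst_neg, neg_vecMul, neg_neg]⟩

/-- **[Dat]** -/
theorem boxDt : BoxDt := by
  intro p _ k _ _ _ Y _ N _ _ ρ F G D _
  let e := (Fintype.equivFin D.I).symm
  have car : Car (Cf fun i => (D.wt (sr (e i)), D.cw (e i))) (DatA.dd D ∘ e) := car_sub (DatA.car D) e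
  refine ⟨_, _, _, _, car, tr_of car (fun i => D.cor_sr _ ▸ rt_mem (isRoot_sr _ _ _)) ?_ ?_ ?_⟩
  · rintro _ ⟨a, ha, rfl⟩ _ ⟨b, hb, rfl⟩ (h : D.cor a = D.cor b)
    have h1 : ∀ x, cpr D.cs D.h x a = cpr D.cs D.h x b := fun x => by rw [← D.pair_cor ha, ← D.pair_cor hb, h]
    have h2 : cpr D.cs D.h a b = 2 := (h1 a).symm.trans (cpr_self _ _ ha)
    by_cases h3 : a = b
    · rw [h3]
    refine absurd (DL.Base.cpr_mul_lt ha hb h3 fun h4 => ?_) (by rw [h2, h1, cpr_self _ _ hb]; norm_num)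
    rw [h4, cpr_neg _ _ _ hb, cpr_self _ _ hb] at h2
    omega
  · rintro _ ⟨b, hb, rfl⟩ _ ⟨a, ha, rfl⟩
    rw [rfm_eq hb]
    exact ⟨_, rt_mem (ha.act _), (D.cor_act _ ha).symm, D.wt_act _ a⟩
  · rintro _ ⟨_, ⟨w, i, rfl⟩, rfl⟩
    induction w using D.cs.simple_induction_left with
    | one =>
      obtain ⟨i, rfl⟩ := e.surjective i
      rw [map_one, Module.End.one_apply, D.cor_sr]
      exact dn_s _ i
    | mul_simple_left w j ih =>
      obtain ⟨j, rfl⟩ := e.surjective j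
      rw [ChevalleyStructure.CoxeterGeom.rep_mul_apply]
      exact ih.step j ((congrArg (· *ᵥ _) (D.Wm_simple _).symm).trans (D.cor_act _ ((isRoot_sr _ _ i).act w)).symm)
        ((congrArg (_ ᵥ* ·) (D.Wm_simple _).symm).trans (D.wt_act _ _))

end Cfsg.Agent.OM.Cu
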