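import Cfsg.Agent.OM.Cu.Defs

/-!
# OM / Cu : eigenvalues of level `l` and determinants (helper10)
-/

set_option autoImplicit false
set_option linter.unusedSectionVars false

namespace Cfsg.Agent.OM.Cu

open Cfsg Matrix Polynomial Cfsg.Agent.HZ.L

namespace Eg

variable {I : Type} [Fintype I] [DecidableEq I] {A : Mat I} {q : ℤ} {l d e : ℕ}

theorem aeval_cp {K : Type} [CommRing K] (A : Mat I) (u : K) :
    aeval u A.charpoly = (u • (1 : Matrix I I K) - A.map (Int.cast : ℤ → K)).det := by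
  rw [aeval_def, eval₂_eq_eval_map, algebraMap_int_eq, ← charpoly_map, eval_charpoly, scalar_apply, smul_one_eq_diagonal]
  rfl

theorem root_iff {μ : ℂ} : aeval μ A.charpoly = 0 ↔ ∃ y, y ≠ 0 ∧ IsE A μ y := by
  rw [aeval_cp, ← exists_mulVec_eq_zero_iff]
  refine exists_congr fun y => and_congr_right fun _ => ?_
  rw [sub_mulVec, smul_mulVec, one_mulVec, sub_eq_zero, eq_comm, IsE]

theorem dvd_iff [Fact l.Prime] (h : ¬ (l : ℤ) ∣ q) : (l : ℤ) ∣ (q • A - 1).det ↔ aeval (q : ZMod l)⁻¹ A.charpoly = 0 := by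
  have h0 : (q : ZMod l) ≠ 0 := mt (ZMod.intCast_zmod_eq_zero_iff_dvd q l).1 h
  have h1 : (q • A - 1).map (Int.cast : ℤ → ZMod l) =
      (-q : ZMod l) • ((q : ZMod l)⁻¹ • (1 : Matrix I I (ZMod l)) - A.map (Int.cast : ℤ → ZMod l)) := by
    ext i j
    simp only [Matrix.map_apply, Matrix.sub_apply, Matrix.smul_apply, smul_eq_mul, one_apply]
    split_ifs <;> push_cast <;> field_simp <;> ring
  rw [← ZMod.intCast_zmod_eq_zero_iff_dvd, Int.cast_det, h1, det_smul, aeval_cp, mul_eq_zero,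
    or_iff_right (pow_ne_zero _ (neg_ne_zero.2 h0))]

theorem cyc_iff [Fact l.Prime] {m i : ℕ} (h : ¬ l ∣ m) {u : ZMod l} : aeval u (cyclotomic (l ^ i * m) ℤ) = 0 ↔ IsPrimitiveRoot u m := by
  have : NeZero (m : ZMod l) := ⟨mt (ZMod.natCast_eq_zero_iff m l).1 h⟩
  rw [aeval_def, eval₂_eq_eval_map, map_cyclotomic]
  exact isRoot_cyclotomic_prime_pow_mul_iff_of_charP

theorem prim (h : Pq q l d e) : IsPrimitiveRoot (q : ZMod l)⁻¹ e ∧ ¬ l ∣ e ∧ 0 < e := by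
  have : Fact l.Prime := ⟨h.lp⟩
  have h0 : (q : ZMod l) ≠ 0 := mt (ZMod.intCast_zmod_eq_zero_iff_dvd q l).1 h.nd
  have h1 : e ∣ l - 1 := h.oe ▸ ZMod.orderOf_dvd_card_sub_one h0
  have h2 := h.lp.two_le
  have h3 : 0 < e := Nat.pos_of_dvd_of_pos h1 (by omega)
  exact ⟨(h.oe ▸ IsPrimitiveRoot.orderOf _ : IsPrimitiveRoot (q : ZMod l) e).inv,
    Nat.not_dvd_of_pos_of_lt h3 ((Nat.le_of_dvd (by omega) h1).trans_lt (by omega)), h3⟩

theorem exists_root {K : Type} [CommRing K] [IsDomain K] {u : K} {f : ℤ[X]} (hf : f.Monic) (h : aeval u f = 0) :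
    ∃ μ : ℂ, aeval μ f = 0 ∧ aeval u (minpoly ℤ μ) = 0 := by
  induction hn : f.natDegree using Nat.strong_induction_on generalizing f with
  | _ n ih =>
    have h0 : f.degree ≠ 0 := fun e => by
      rw [hf.degree_le_zero_iff_eq_one.1 e.le, map_one] at h
      exact one_ne_zero h
    obtain ⟨μ, hμ⟩ := IsAlgClosed.exists_aeval_eq_zero_of_injective ℂ (algebraMap ℤ ℂ).injective_int f h0
    have hi : IsIntegral ℤ μ := ⟨f, hf, hμ⟩
    obtain ⟨g, rfl⟩ := minpoly.isIntegrallyClosed_dvd hi hμ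
    have hg := (minpoly.monic hi).of_mul_monic_left hf
    rw [map_mul, mul_eq_zero] at h
    refine h.elim (fun h => ⟨μ, hμ, h⟩) fun h => ?_
    obtain ⟨ν, h1, h2⟩ := ih _ (by
      rw [← hn, (minpoly.monic hi).natDegree_mul hg]
      exact Nat.lt_add_of_pos_left (minpoly.natDegree_pos hi)) hg h rfl
    exact ⟨ν, by rw [map_mul, h1, mul_zero], h2⟩

end Eg

open Eg

theorem eig_one {I : Type} [Fintype I] [DecidableEq I] (A : Mat I) (q : ℤ) (l d e : ℕ) (μ : ℂ) (y : I → ℂ) (h : Pq q l d e)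
    (hμ : Lv l e μ) (h0 : y ≠ 0) (hy : IsE A μ y) : (l : ℤ) ∣ (q • A - 1).det := by
  have : Fact l.Prime := ⟨h.lp⟩
  obtain ⟨h1, h2, h3⟩ := prim h
  obtain ⟨j, hj⟩ := hμ
  obtain ⟨i, -, hi⟩ := (Nat.dvd_prime_pow h.lp).1 (Nat.gcd_dvd_right (orderOf μ) (l ^ j))
  have h4 : IsPrimitiveRoot μ (l ^ i * e) := by
    rw [hj.eq_orderOf, orderOf_pow' _ (pow_ne_zero j h.lp.ne_zero), ← hi, Nat.mul_div_cancel' (Nat.gcd_dvd_left _ _)]
    exact IsPrimitiveRoot.orderOf μ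
  have h5 := Nat.mul_pos (pow_pos h.lp.pos i) h3
  obtain ⟨g, hg⟩ := minpoly.isIntegrallyClosed_dvd (h4.isIntegral h5) (root_iff.2 ⟨y, h0, hy⟩)
  rw [dvd_iff h.nd, hg, map_mul, ← cyclotomic_eq_minpoly h4 h5, (cyc_iff h2).2 h1, zero_mul]

theorem eig_two {I : Type} [Fintype I] [DecidableEq I] (A : Mat I) (q : ℤ) (l d e n : ℕ) (h : Pq q l d e) (hn : 0 < n)
    (hA : A ^ n = 1) (hd : (l : ℤ) ∣ (q • A - 1).det) : ∃ (μ : ℂ) (y : I → ℂ), Lv l e μ ∧ y ≠ 0 ∧ IsE A μ y := by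
  have : Fact l.Prime := ⟨h.lp⟩
  obtain ⟨μ, h1, h2⟩ := exists_root A.charpoly_monic ((dvd_iff h.nd).1 hd)
  obtain ⟨y, h3, h4⟩ := root_iff.1 h1
  have h5 : ∀ j : ℕ, IsE (A ^ j) (μ ^ j) y := fun j => by
    induction j with
    | zero => simp [IsE]
    | succ j ih =>
      rw [IsE, pow_succ, show (A ^ j * A).map (Int.cast : ℤ → ℂ) = (A ^ j).map Int.cast * A.map Int.cast from
        Matrix.map_mul (f := Int.castRingHom ℂ), ← mulVec_mulVec, h4, mulVec_smul, ih, smul_smul, pow_succ']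
  have h6 : μ ^ n = 1 := by
    have := h5 n
    rw [hA, IsE, Matrix.map_one _ Int.cast_zero Int.cast_one, one_mulVec] at this
    exact smul_left_injective ℂ h3 (this.symm.trans (one_smul ℂ y).symm)
  have h7 : 0 < orderOf μ := orderOf_pos_iff.2 (isOfFinOrder_iff_pow_eq_one.2 ⟨n, hn, h6⟩)
  obtain ⟨i, m, h8, h9⟩ := Nat.exists_eq_pow_mul_and_not_dvd h7.ne' l h.lp.one_lt.ne'
  rw [← cyclotomic_eq_minpoly (IsPrimitiveRoot.orderOf μ) h7, h9, cyc_iff h8] at h2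
  exact ⟨μ, y, ⟨i, (h2.unique (prim h).1) ▸ (IsPrimitiveRoot.orderOf μ).pow h7 h9⟩, h3, h4⟩

theorem eig_wit {I : Type} [Fintype I] [DecidableEq I] (A : Mat I) (d : ℕ) (v : Vec I) (hd : 0 < d) (hv : v ≠ 0)
    (h : aeval A (cyclotomic d ℤ) *ᵥ v = 0) : ∃ (μ : ℂ) (y : I → ℂ), IsPrimitiveRoot μ d ∧ y ≠ 0 ∧ IsE A μ y := by
  have h1 : (detMonoidHom.comp (aeval (A.map (Int.cast : ℤ → ℂ)) : ℂ[X] →ₐ[ℂ] _).toMonoidHom) (cyclotomic d ℂ) = 0 := by
    have h2 := congrArg (Int.cast : ℤ → ℂ) (exists_mulVec_eq_zero_iff.1 ⟨v, hv, h⟩)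
    rw [Int.cast_det, Int.cast_zero] at h2
    rw [← h2, ← map_cyclotomic_int, ← algebraMap_int_eq]
    refine congrArg det ((aeval_map_algebraMap ℂ _ _).trans ?_)
    exact aeval_algHom_apply (Int.castRingHom ℂ).mapMatrix.toIntAlgHom A _
  rw [cyclotomic_eq_prod_X_sub_primitiveRoots (Complex.isPrimitiveRoot_exp d hd.ne'), map_prod, Finset.prod_eq_zero_iff] at h1
  obtain ⟨μ, h2, h3⟩ := h1
  obtain ⟨y, h4, h5⟩ := exists_mulVec_eq_zero_iff.2 (show (aeval (A.map (Int.cast : ℤ → ℂ)) (X - C μ)).det = 0 from h3)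
  refine ⟨μ, y, (mem_primitiveRoots hd).1 h2, h4, ?_⟩
  rwa [map_sub, aeval_X, aeval_C, Algebra.algebraMap_eq_smul_one, sub_mulVec, smul_mulVec, one_mulVec, sub_eq_zero] at h5

theorem boxEig : BoxEig := ⟨eig_one, eig_two, eig_wit⟩

end Cfsg.Agent.OM.Cu
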