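import Cfsg.Agent.OM.Cu.Defs
import Cfsg.Agent.Tits.Roots

/-!
# OM / Cu : the basic facts on the root system of a Cartan matrix (helper36)
-/

set_option autoImplicit false
set_option linter.unusedSectionVars false

namespace Cfsg.Agent.OM.Cu

open Matrix Cfsg.Agent.HZ.L Cfsg.Agent.BZ.TA Cfsg.Agent.BZ.TA.Cl Cfsg.Agent.ChevalleyStructure.CoxeterGeom
  Cfsg.Agent.Tits.Roots

namespace RsP

variable {I : Type} [Fintype I] [DecidableEq I] {C : Mat I} {d : I → ℤ}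

theorem rfm_mulVec (a : Vec I × Vec I) (v : Vec I) : rfm a *ᵥ v = v - (a.1 ⬝ᵥ v) • a.2 := by
  rw [rfm, sub_mulVec, one_mulVec, vecMulVec_mulVec, op_smul_eq_smul]

theorem vecMul_rfm (a : Vec I × Vec I) (u : Vec I) : u ᵥ* rfm a = u - (u ⬝ᵥ a.2) • a.1 := by
  rw [rfm, vecMul_sub, vecMul_one, vecMul_vecMulVec]

theorem rfm_sq {a : Vec I × Vec I} (h : a.1 ⬝ᵥ a.2 = 2) : rfm a * rfm a = 1 := by
  refine Matrix.ext_iff_mulVec.2 fun v => ?_
  rw [← mulVec_mulVec, rfm_mulVec, rfm_mulVec, one_mulVec, dotProduct_sub, dotProduct_smul, h, smul_eq_mul]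
  module

theorem sp_two (h : Car C d) (i : I) : (sp C i).1 ⬝ᵥ (sp C i).2 = 2 := by
  simp only [sp, dotProduct_single, mul_one, h.diag]

theorem sp_dot (i : I) (v : Vec I) : (sp C i).1 ⬝ᵥ v = (v ᵥ* C) i := by
  simp only [sp, vecMul, dotProduct, mul_comm]

theorem s_mem (i : I) : rfm (sp C i) ∈ Wc C := Submonoid.subset_closure ⟨_, ⟨i, rfl⟩, rfl⟩

theorem ind {p : Mat I → Prop} (h1 : p 1) (hs : ∀ i, p (rfm (sp C i))) (hm : ∀ u w, u ∈ Wc C → w ∈ Wc C → p u → p w → p (u * w))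
    {w : Mat I} (hw : w ∈ Wc C) : p w := by
  induction hw using Submonoid.closure_induction with
  | mem x hx =>
    obtain ⟨_, ⟨i, rfl⟩, rfl⟩ := hx
    exact hs i
  | one => exact h1
  | mul x y hx hy px py => exact hm x y hx hy px py

theorem inv (h : Car C d) {w : Mat I} (hw : w ∈ Wc C) : ∃ u ∈ Wc C, u * w = 1 ∧ w * u = 1 := by
  refine ind (C := C) (p := fun w => ∃ u ∈ Wc C, u * w = 1 ∧ w * u = 1) ⟨1, one_mem _, mul_one _, mul_one _⟩
    (fun i => ⟨_, s_mem i, rfm_sq (sp_two h i), rfm_sq (sp_two h i)⟩) ?_ hw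
  rintro u w - - ⟨u', hu', h1, h2⟩ ⟨w', hw', h3, h4⟩
  refine ⟨w' * u', mul_mem hw' hu', ?_, ?_⟩
  · rw [mul_assoc, ← mul_assoc u', h1, one_mul, h3]
  · rw [mul_assoc, ← mul_assoc w, h4, one_mul, h2]

theorem fm_comm (h : Car C d) (β γ : Vec I) : fm C d β γ = fm C d γ β := by
  simp only [fm, vecMul, dotProduct, Finset.mul_sum]
  rw [Finset.sum_comm]
  refine Finset.sum_congr rfl fun i _ => Finset.sum_congr rfl fun j _ => ?_
  linear_combination (β j * γ i) * h.sym i j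

theorem fm_sub (β β' γ : Vec I) : fm C d (β - β') γ = fm C d β γ - fm C d β' γ := by
  simp only [fm, Pi.sub_apply, sub_mul, Finset.sum_sub_distrib]

theorem fm_smul (m : ℤ) (β γ : Vec I) : fm C d (m • β) γ = m * fm C d β γ := by
  simp only [fm, Pi.smul_apply, smul_eq_mul, Finset.mul_sum, mul_assoc]

theorem fm_sub' (β γ γ' : Vec I) : fm C d β (γ - γ') = fm C d β γ - fm C d β γ' := by
  simp only [fm, sub_vecMul, Pi.sub_apply, mul_sub, Finset.sum_sub_distrib]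

theorem fm_smul' (m : ℤ) (β γ : Vec I) : fm C d β (m • γ) = m * fm C d β γ := by
  simp only [fm, smul_vecMul, Pi.smul_apply, smul_eq_mul, Finset.mul_sum]
  exact Finset.sum_congr rfl fun i _ => by ring

theorem fm_sp (i : I) (v : Vec I) : fm C d (sp C i).2 v = d i * ((sp C i).1 ⬝ᵥ v) := by
  rw [sp_dot, fm, Finset.sum_eq_single i]
  · simp only [sp, Pi.single_eq_same, one_mul]
  · intro j _ hj
    simp only [sp, Pi.single_eq_of_ne hj, zero_mul]
  · exact fun hi => (hi (Finset.mem_univ i)).elim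

theorem fm_zero (h : Car C d) {v : Vec I} (hv : fm C d v v ≤ 0) : v = 0 := by
  by_contra h0
  exact absurd (h.pos v h0) (not_lt.2 hv)

theorem iso (h : Car C d) {w : Mat I} (hw : w ∈ Wc C) : ∀ β γ, fm C d (w *ᵥ β) (w *ᵥ γ) = fm C d β γ := by
  refine ind (C := C) (p := fun w => ∀ β γ, fm C d (w *ᵥ β) (w *ᵥ γ) = fm C d β γ) (fun β γ => by rw [one_mulVec, one_mulVec])
    (fun i β γ => ?_) (fun u w _ _ hu hw β γ => by rw [← mulVec_mulVec, ← mulVec_mulVec, hu, hw]) hw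
  rw [rfm_mulVec, rfm_mulVec, fm_sub, fm_sub', fm_sub', fm_smul, fm_smul', fm_smul, fm_smul', fm_comm h β (sp C i).2, fm_sp, fm_sp,
    fm_sp, sp_two h]
  ring

theorem mem (i : I) : sp C i ∈ Rc C := ⟨1, one_mem _, i, one_mulVec _, vecMul_one _⟩

theorem two (h : Car C d) {a : Vec I × Vec I} (ha : a ∈ Rc C) : a.1 ⬝ᵥ a.2 = 2 := by
  obtain ⟨w, -, i, h1, h2⟩ := ha
  rw [← h1, dotProduct_mulVec, h2, sp_two h]

theorem len (h : Car C d) {a : Vec I × Vec I} (ha : a ∈ Rc C) : ∃ m : ℤ, 0 < m ∧ ∀ v, fm C d a.2 v = m * (a.1 ⬝ᵥ v) := by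
  obtain ⟨w, hw, i, h1, h2⟩ := ha
  obtain ⟨u, -, -, h4⟩ := inv h hw
  refine ⟨d i, h.dpos i, fun v => ?_⟩
  have hv : v = w *ᵥ (u *ᵥ v) := by rw [mulVec_mulVec, h4, one_mulVec]
  conv_lhs => rw [hv, ← h1, iso h hw, fm_sp, ← h2, ← dotProduct_mulVec, ← hv]

theorem neg (h : Car C d) {a : Vec I × Vec I} (ha : a ∈ Rc C) : -a ∈ Rc C := by
  obtain ⟨w, hw, i, h1, h2⟩ := ha
  refine ⟨w * rfm (sp C i), mul_mem hw (s_mem i), i, ?_, ?_⟩
  · rw [← mulVec_mulVec, rfm_mulVec, sp_two h, mulVec_sub, mulVec_smul, h1, Prod.snd_neg]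
    module
  · rw [← vecMul_vecMul, Prod.fst_neg, neg_vecMul, h2, vecMul_rfm, neg_dotProduct, sp_two h]
    module

theorem nm (h : Car C d) {w : Mat I} (hw : w ∈ Wc C) : Nm w (Rc C) := by
  rintro a ⟨v, hv, i, h1, h2⟩
  obtain ⟨u, -, h3, -⟩ := inv h hw
  refine ⟨(a.1 ᵥ* u, w *ᵥ a.2), ⟨w * v, mul_mem hw hv, i, ?_, ?_⟩, rfl, ?_⟩
  · rw [← mulVec_mulVec, h1]
  · show (a.1 ᵥ* u) ᵥ* (w * v) = _
    rw [vecMul_vecMul, ← mul_assoc, h3, one_mul, h2]
  · show (a.1 ᵥ* u) ᵥ* w = _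
    rw [vecMul_vecMul, h3, vecMul_one]

theorem r_mem (h : Car C d) {a : Vec I × Vec I} (ha : a ∈ Rc C) : rfm a ∈ Wc C := by
  obtain ⟨w, hw, i, h1, h2⟩ := ha
  obtain ⟨u, hu, -, h4⟩ := inv h hw
  have e : rfm a * w = w * rfm (sp C i) := by
    refine Matrix.ext_iff_mulVec.2 fun v => ?_
    rw [← mulVec_mulVec, ← mulVec_mulVec, rfm_mulVec, rfm_mulVec, mulVec_sub, mulVec_smul, h1, dotProduct_mulVec, h2]
  have e' : rfm a = w * rfm (sp C i) * u := by rw [← e, mul_assoc, h4, mul_one]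
  exact e' ▸ mul_mem (mul_mem hw (s_mem i)) hu

theorem ww (h : Car C d) : WW (Rc C) = Wc C := by
  refine le_antisymm (Submonoid.closure_le.2 ?_) (Submonoid.closure_mono (Set.image_mono ?_))
  · rintro _ ⟨a, ha, rfl⟩
    exact r_mem h ha
  · rintro _ ⟨i, rfl⟩
    exact mem i

theorem ext (h : Car C d) {a b : Vec I × Vec I} (ha : a ∈ Rc C) (hb : b ∈ Rc C) (e : a.2 = b.2) : a = b := by
  obtain ⟨m, hm, h1⟩ := len h ha
  obtain ⟨n, -, h2⟩ := len h hb
  have h3 : m = n := by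
    have := h1 a.2
    rw [two h ha, e, h2, two h hb] at this
    omega
  refine Prod.ext (funext fun i => ?_) e
  have := h1 (Pi.single i 1)
  rw [e, h2, ← h3, dotProduct_single, dotProduct_single, mul_one, mul_one] at this
  exact (mul_left_cancel₀ hm.ne' this).symm

theorem ext' (h : Car C d) {a b : Vec I × Vec I} (ha : a ∈ Rc C) (hb : b ∈ Rc C) (e : a.1 = b.1) : a = b := by
  obtain ⟨m, hm, h1⟩ := len h ha
  obtain ⟨n, -, h2⟩ := len h hb
  have h3 : n • a.2 - m • b.2 = 0 := by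
    refine fm_zero h (le_of_eq ?_)
    generalize hv : n • a.2 - m • b.2 = v
    conv_lhs => rw [show fm C d v v = fm C d (n • a.2 - m • b.2) v by rw [hv], fm_sub, fm_smul, fm_smul, h1, h2, e]
    ring
  have h4 : m = n := by
    have := congrArg (fun v => a.1 ⬝ᵥ v) h3
    simp only [dotProduct_sub, dotProduct_smul, dotProduct_zero, smul_eq_mul] at this
    rw [two h ha, e, two h hb] at this
    omega
  rw [← h4, ← smul_sub, smul_eq_zero, sub_eq_zero] at h3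
  exact Prod.ext e (h3.resolve_left hm.ne')

theorem top₀ (h : Car C d) {v : Vec I} (hv : v ᵥ* C = 0) : v = 0 := by
  refine fm_zero h (le_of_eq ?_)
  simp only [fm, hv, Pi.zero_apply, mul_zero, Finset.sum_const_zero]

theorem top (h : Car C d) {v : Vec I} (hv : Perp (Rc C) v) : v = 0 :=
  top₀ h (funext fun i => (sp_dot i v).symm.trans (hv _ (mem i)))

theorem det_ne (h : Car C d) : C.det ≠ 0 := fun h0 => by
  obtain ⟨v, hv, h1⟩ := Matrix.exists_vecMul_eq_zero_iff.2 h0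
  exact hv (top₀ h h1)

theorem topC (h : Car C d) {y : I → ℂ} (hy : ∀ a ∈ Rc C, ev a.1 y = 0) : y = 0 := by
  by_contra h0
  have h1 : (C.map (Int.castRingHom ℂ)).det = 0 := by
    refine Matrix.exists_vecMul_eq_zero_iff.1 ⟨y, h0, funext fun i => ?_⟩
    have := hy _ (mem (C := C) i)
    simp only [ev, sp, dotProduct] at this
    simp only [vecMul, dotProduct, map_apply, eq_intCast, Pi.zero_apply, ← this, mul_comm]
  rw [← RingHom.mapMatrix_apply, ← RingHom.map_det, eq_intCast, Int.cast_eq_zero] at h1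
  exact det_ne h h1

theorem cartan (h : Car C d) : IsCartan (cox C) fun i j => C j i :=
  ⟨h.diag, fun i j hij => by have := ent' h hij; tauto⟩

theorem rep_s (h : Car C d) (i : I) (x : Vec I) :
    rep (cox C).toCoxeterSystem (cartan h) ((cox C).toCoxeterSystem.simple i) x = rfm (sp C i) *ᵥ x := by
  rw [rep_simple_eq, rfm_mulVec]
  rfl

theorem rep_w (h : Car C d) {w : Mat I} (hw : w ∈ Wc C) : ∃ g, ∀ x, rep (cox C).toCoxeterSystem (cartan h) g x = w *ᵥ x := by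
  refine ind (C := C) (p := fun w => ∃ g, ∀ x, rep (cox C).toCoxeterSystem (cartan h) g x = w *ᵥ x)
    ⟨1, fun x => by rw [map_one, one_mulVec, Module.End.one_apply]⟩ (fun i => ⟨_, rep_s h i⟩) ?_ hw
  rintro u w - - ⟨g, hg⟩ ⟨g', hg'⟩
  exact ⟨g * g', fun x => by rw [rep_mul_apply, hg', hg, mulVec_mulVec]⟩

theorem isRoot (h : Car C d) {a : Vec I × Vec I} (ha : a ∈ Rc C) : IsRoot (cox C).toCoxeterSystem (cartan h) a.2 := by
  obtain ⟨w, hw, i, h1, -⟩ := ha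
  obtain ⟨g, hg⟩ := rep_w h hw
  exact ⟨g, i, by rw [hg, ← h1]; rfl⟩

theorem red (h : Car C d) {a b : Vec I × Vec I} (ha : a ∈ Rc C) (hb : b ∈ Rc C) {m n : ℤ} (hm : m ≠ 0) (e : m • a.2 = n • b.2) :
    b = a ∨ b = -a := by
  obtain ⟨w, hw, i, h1, -⟩ := id ha
  obtain ⟨u, hu, h3, h4⟩ := inv h hw
  obtain ⟨c, hc, h5, -⟩ := nm h hu b hb
  have e1 : m • (sp C i).2 = n • c.2 := by
    rw [← h5, ← mulVec_smul, ← e, mulVec_smul, ← h1, mulVec_mulVec, h3, one_mulVec]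
  have hn : n ≠ 0 := by
    rintro rfl
    have := congrFun e1 i
    simp only [sp, Pi.smul_apply, Pi.single_eq_same, smul_eq_mul, mul_one, zero_mul] at this
    exact hm this
  have e2 : c.2 = c.2 i • (sp C i).2 := by
    funext k
    by_cases hk : k = i
    · subst hk
      simp only [sp, Pi.smul_apply, Pi.single_eq_same, smul_eq_mul, mul_one]
    · have := congrFun e1 k
      simp only [sp, Pi.smul_apply, Pi.single_eq_of_ne hk, smul_eq_mul, mul_zero] at this ⊢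
      exact (mul_eq_zero.1 this.symm).resolve_left hn
  have e3 : b.2 = c.2 i • a.2 := by
    rw [← h1, ← mulVec_smul, ← e2, ← h5, mulVec_mulVec, h4, one_mulVec]
  rcases Int.isUnit_iff.1 (isUnit_of_smul _ _ (isRoot h hb) _ e3) with h6 | h6
  · exact Or.inl (ext h hb ha (by rw [e3, h6, one_smul]))
  · exact Or.inr (ext h hb (neg h ha) (by rw [e3, h6, neg_one_smul, Prod.snd_neg]))

theorem rf (h : Car C d) {a b : Vec I × Vec I} (ha : a ∈ Rc C) (hb : b ∈ Rc C) (e : rfm a = rfm b) : b = a ∨ b = -a := by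
  have := congrArg (fun A => A *ᵥ a.2) e
  simp only [rfm_mulVec, two h ha, sub_right_inj] at this
  exact red h ha hb two_ne_zero this

/-- the Cartan integers of two roots which are not proportional -/
theorem cauchy (h : Car C d) {a b : Vec I × Vec I} (ha : a ∈ Rc C) (hb : b ∈ Rc C) (h1 : b ≠ a) (h2 : b ≠ -a) :
    (a.1 ⬝ᵥ b.2) * (b.1 ⬝ᵥ a.2) < 4 ∧ (0 < a.1 ⬝ᵥ b.2 → 0 < b.1 ⬝ᵥ a.2) ∧ (a.1 ⬝ᵥ b.2 < 0 → b.1 ⬝ᵥ a.2 < 0) := by
  obtain ⟨m, hm, e1⟩ := len h ha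
  obtain ⟨n, hn, e2⟩ := len h hb
  have e3 : m * (a.1 ⬝ᵥ b.2) = n * (b.1 ⬝ᵥ a.2) := by rw [← e1, ← e2, fm_comm h]
  refine ⟨?_, fun hp => ?_, fun hp => ?_⟩
  · have h0 : (2 : ℤ) • b.2 - (a.1 ⬝ᵥ b.2) • a.2 ≠ 0 := fun h0 => by
      rcases red h hb ha two_ne_zero (sub_eq_zero.1 h0) with h3 | h3
      · exact h1 h3.symm
      · exact h2 (by rw [h3, neg_neg])
    have h3 : 0 < fm C d ((2 : ℤ) • b.2 - (a.1 ⬝ᵥ b.2) • a.2) ((2 : ℤ) • b.2 - (a.1 ⬝ᵥ b.2) • a.2) := h.pos _ h0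
    rw [fm_sub, fm_smul, fm_smul, e1, e2, dotProduct_sub, dotProduct_sub, dotProduct_smul, dotProduct_smul, dotProduct_smul,
      dotProduct_smul, two h ha, two h hb] at h3
    simp only [smul_eq_mul] at h3
    nlinarith
  · by_contra h3
    nlinarith [mul_pos hm hp, mul_nonneg hn.le (neg_nonneg.2 (not_lt.1 h3))]
  · by_contra h3
    nlinarith [mul_neg_of_pos_of_neg hm hp, mul_nonneg hn.le (not_lt.1 h3)]

theorem sub (h : Car C d) {a b : Vec I × Vec I} (ha : a ∈ Rc C) (hb : b ∈ Rc C) (h1 : b ≠ a) (hp : 0 < a.1 ⬝ᵥ b.2) :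
    ∃ c ∈ Rc C, c.2 = a.2 - b.2 := by
  have h2 : b ≠ -a := by
    rintro rfl
    rw [Prod.snd_neg, dotProduct_neg, two h ha] at hp
    omega
  obtain ⟨h3, h4, -⟩ := cauchy h ha hb h1 h2
  have h5 := h4 hp
  by_cases h6 : b.1 ⬝ᵥ a.2 = 1
  · obtain ⟨c, hc, e, -⟩ := nm h (r_mem h hb) a ha
    exact ⟨c, hc, by rw [← e, rfm_mulVec, h6, one_smul]⟩
  · have h7 : a.1 ⬝ᵥ b.2 = 1 := by
      have : 2 ≤ b.1 ⬝ᵥ a.2 := by omega
      nlinarith
    obtain ⟨c, hc, e, -⟩ := nm h (r_mem h ha) b hb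
    exact ⟨-c, neg h hc, by rw [Prod.snd_neg, ← e, rfm_mulVec, h7, one_smul, neg_sub]⟩

theorem bound (h : Car C d) {a b : Vec I × Vec I} (ha : a ∈ Rc C) (hb : b ∈ Rc C) : a.1 ⬝ᵥ b.2 ∈ Set.Icc (-3 : ℤ) 3 := by
  by_cases h1 : b = a
  · rw [h1, two h ha]
    decide
  by_cases h2 : b = -a
  · rw [h2, Prod.snd_neg, dotProduct_neg, two h ha]
    decide
  obtain ⟨h3, h4, h5⟩ := cauchy h ha hb h1 h2
  constructor
  · by_contra h6
    have := h5 (by omega)
    nlinarith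
  · by_contra h6
    have := h4 (by omega)
    nlinarith

theorem fin (h : Car C d) : (Rc C).Finite := by
  refine Set.Finite.of_finite_image (f := fun a => a.2 ᵥ* C)
    ((Set.Finite.pi' fun _ : I => Set.finite_Icc (-3 : ℤ) 3).subset ?_) fun a ha b hb e => ?_
  · rintro _ ⟨a, ha, rfl⟩ i
    have := bound h (mem i) ha
    rwa [sp_dot] at this
  · refine ext h ha hb (sub_eq_zero.1 (top₀ h ?_))
    rw [sub_vecMul, sub_eq_zero]
    exact e

theorem smp (h : Car C d) (i : I) {a : Vec I × Vec I} (ha : a ∈ Rc C) (h0 : 0 ≤ a.2) (h1 : a ≠ sp C i) :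
    0 ≤ rfm (sp C i) *ᵥ a.2 :=
  rep_s h i a.2 ▸ (isRoot h ha).simple_nonneg h0 i fun e => h1 (ext h ha (mem i) e)

end RsP

open RsP in
/-- **the basic facts** -/
theorem boxRs : BoxRs := fun _ _ h =>
  { fin := fin h
    mem := mem
    two := fun _ => two h
    neg := fun _ => neg h
    nm := fun _ => nm h
    ww := ww h
    inv := fun _ => inv h
    ext := fun _ ha _ => ext h ha
    ext' := fun _ ha _ => ext' h ha
    top := fun _ => top h
    topC := fun _ => topC h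
    pn := fun _ ha => (isRoot h ha).pos_or_neg
    red := fun _ ha _ hb _ _ => red h ha hb
    rf := fun _ ha _ => rf h ha
    comm := fm_comm h
    iso := fun _ => iso h
    len := fun _ => len h
    sub := fun _ ha _ => sub h ha
    smp := fun i _ => smp h i }

end Cfsg.Agent.OM.Cu
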