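import Cfsg.Agent.OM.Cu.Defs

/-!
# OM / Cu : the roots of a label span a lattice without torsion prime to the order (helper21)

`boxSat : BoxRs → BoxSat`.
-/

set_option autoImplicit false
set_option linter.unusedSectionVars false

namespace Cfsg.Agent.OM.Cu

open Matrix Cfsg.Agent.HZ.L Cfsg.Agent.BZ.TA Submodule

namespace Sa

variable {I : Type} [Fintype I] [DecidableEq I] {C : Mat I} {d : I → ℤ} {n l : ℕ} {τ : Vec I}

theorem rfm_mulVec (a : Vec I × Vec I) (v : Vec I) : rfm a *ᵥ v = v - (a.1 ⬝ᵥ v) • a.2 := by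
  rw [rfm, sub_mulVec, one_mulVec, vecMulVec_mulVec, op_smul_eq_smul]

theorem rfm_rfm {a : Vec I × Vec I} (h : a.1 ⬝ᵥ a.2 = 2) (v : Vec I) : rfm a *ᵥ (rfm a *ᵥ v) = v := by
  rw [rfm_mulVec, rfm_mulVec, dotProduct_sub, dotProduct_smul, h, smul_eq_mul, sub_sub, ← add_smul,
    show a.1 ⬝ᵥ v + (a.1 ⬝ᵥ v - a.1 ⬝ᵥ v * 2) = 0 by ring, zero_smul, sub_zero]

theorem sp_dot (i : I) (v : Vec I) : (sp C i).1 ⬝ᵥ v = (v ᵥ* C) i := dotProduct_comm _ _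

theorem dot_sp (i : I) : τ ⬝ᵥ (sp C i).2 = τ i := dotProduct_single_one τ i

theorem mem_K {L : Submodule ℤ (Vec I)} (hK : ∀ i, τ i = 0 → Pi.single i 1 ∈ L) {u : Vec I} (hu : ∀ i, τ i ≠ 0 → u i = 0) :
    u ∈ L := by
  rw [← Finset.univ_sum_single u]
  refine sum_mem fun i _ => ?_
  by_cases h : τ i = 0
  · rw [← mul_one (u i), ← smul_eq_mul, Pi.single_smul]
    exact smul_mem _ _ (hK i h)
  · rw [hu i h, Pi.single_zero]
    exact zero_mem _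

/-- the lattice argument -/
theorem core (hl : l.Prime) (hn : ¬ l ∣ n) {S : Set (Vec I)} (T : Finset (Vec I)) (h1 : ∀ t ∈ T, t ∈ span ℤ S)
    (hK : ∀ i, τ i = 0 → Pi.single i 1 ∈ span ℤ S) (h2 : ∀ t ∈ T, τ ⬝ᵥ t = n)
    (h3 : ∀ t ∈ T, ∀ t' ∈ T, ∀ i, t i ≠ 0 → t' i ≠ 0 → t' = t)
    (h4 : ∀ s ∈ S, ∃ m : Vec I → ℤ, ∀ i, τ i ≠ 0 → s i = ∑ t ∈ T, m t * t i) {v : Vec I} (hv : (l : ℤ) • v ∈ span ℤ S) :
    v ∈ span ℤ S := by
  have h5 : ∀ x ∈ span ℤ S, ∃ m : Vec I → ℤ, ∀ i, τ i ≠ 0 → x i = ∑ t ∈ T, m t * t i := fun x hx => by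
    induction hx using span_induction with
    | mem x hx => exact h4 x hx
    | zero => exact ⟨0, fun i _ => by simp⟩
    | add x y _ _ hx hy =>
      obtain ⟨a, ha⟩ := hx
      obtain ⟨b, hb⟩ := hy
      exact ⟨a + b, fun i hi => by simp only [Pi.add_apply, ha i hi, hb i hi, add_mul, Finset.sum_add_distrib]⟩
    | smul c x _ hx =>
      obtain ⟨a, ha⟩ := hx
      exact ⟨c • a, fun i hi => by simp only [Pi.smul_apply, smul_eq_mul, ha i hi, mul_assoc, Finset.mul_sum]⟩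
  obtain ⟨m, hm⟩ := h5 _ hv
  have h6 : ∀ t ∈ T, (l : ℤ) ∣ m t := fun t ht => by
    by_contra h
    refine hn (Int.natCast_dvd_natCast.1 (h2 t ht ▸ Finset.dvd_sum fun i _ => ?_))
    by_cases k1 : τ i = 0
    · rw [k1, zero_mul]
      exact dvd_zero _
    by_cases k2 : t i = 0
    · rw [k2, mul_zero]
      exact dvd_zero _
    have h7 := hm i k1
    rw [Finset.sum_eq_single_of_mem t ht fun t' ht' k => mul_eq_zero_of_right _ (by
      by_contra k3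
      exact k (h3 t ht t' ht' i k2 k3))] at h7
    exact (((Nat.prime_iff_prime_int.1 hl).dvd_or_dvd ⟨v i, h7.symm⟩).resolve_left h).mul_left _
  rw [← sub_add_cancel v (∑ t ∈ T, (m t / l) • t)]
  refine add_mem (mem_K hK fun i hi => mul_left_cancel₀ (Int.natCast_ne_zero.2 hl.ne_zero) ?_)
    (sum_mem fun t ht => smul_mem _ _ (h1 t ht))
  rw [mul_zero, Pi.sub_apply, mul_sub, Finset.sum_apply, Finset.mul_sum, sub_eq_zero]
  refine (hm i hi).trans (Finset.sum_congr rfl fun t ht => ?_)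
  rw [Pi.smul_apply, smul_eq_mul, ← mul_assoc, Int.mul_ediv_cancel' (h6 t ht)]

/-- two dominant vectors with a common support -/
theorem fm_pos (H : Car C d) {β γ : Vec I} (h1 : 0 ≤ β) (h2 : ∀ i, 0 ≤ (β ᵥ* C) i) (h3 : ∀ i, 0 ≤ (γ ᵥ* C) i) {j : I}
    (h4 : β j ≠ 0) (h5 : γ j ≠ 0) : 0 < fm C d β γ := by
  have h6 : ∀ i ∈ Finset.univ, 0 ≤ β i * d i * (γ ᵥ* C) i := fun i _ => mul_nonneg (mul_nonneg (h1 i) (H.dpos i).le) (h3 i)
  refine (Finset.sum_nonneg h6).lt_of_ne' fun h => ?_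
  have h7 : ∀ i k, β i ≠ 0 → β k = 0 → C k i = 0 := fun i k hi hk => by
    have k1 : ∀ m ∈ Finset.univ, β m * C m k ≤ 0 := fun m _ => by
      by_cases e : m = k
      · rw [e, hk, zero_mul]
      · exact mul_nonpos_of_nonneg_of_nonpos (h1 m) (H.off m k e)
    have k2 := (Finset.sum_eq_zero_iff_of_nonpos k1).1 (le_antisymm (Finset.sum_nonpos k1) (h2 k)) i (Finset.mem_univ i)
    have k3 := H.sym k i
    rw [(mul_eq_zero.1 k2).resolve_left hi, mul_zero] at k3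
    exact (mul_eq_zero.1 k3).resolve_left (H.dpos i).ne'
  refine (H.pos (fun i => if β i = 0 then 0 else γ i) fun k => h5 ((if_neg h4).symm.trans (congrFun k j))).ne'
    (Finset.sum_eq_zero fun i hi => ?_)
  by_cases k : β i = 0
  · rw [if_pos k, zero_mul, zero_mul]
  refine mul_eq_zero_of_right _ (Eq.trans (Finset.sum_congr rfl fun m _ => ?_) ((mul_eq_zero.1
    ((Finset.sum_eq_zero_iff_of_nonneg h6).1 h i hi)).resolve_left (mul_ne_zero k (H.dpos i).ne')))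
  show (if β m = 0 then 0 else γ m) * C m i = γ m * C m i
  split_ifs with e
  · rw [h7 i m k e, mul_zero, mul_zero]
  · rfl

theorem zero_of (h0 : ∀ i, 0 ≤ τ i) {β : Vec I} (h : 0 ≤ β ∨ β ≤ 0) (h1 : τ ⬝ᵥ β = 0) {i : I} (hi : τ i ≠ 0) : β i = 0 := by
  refine (mul_eq_zero.1 ?_).resolve_left hi
  rcases h with h | h
  · exact (Finset.sum_eq_zero_iff_of_nonneg fun m _ => mul_nonneg (h0 m) (h m)).1 h1 i (Finset.mem_univ i)
  · exact (Finset.sum_eq_zero_iff_of_nonpos fun m _ => mul_nonpos_of_nonneg_of_nonpos (h0 m) (h m)).1 h1 i (Finset.mem_univ i)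

theorem dot_congr {β γ : Vec I} (h : ∀ i, τ i ≠ 0 → β i = γ i) : τ ⬝ᵥ β = τ ⬝ᵥ γ :=
  Finset.sum_congr rfl fun i _ => by
    by_cases k : τ i = 0
    · rw [k, zero_mul, zero_mul]
    · rw [h i k]

variable (R : Rs C d)
include R

theorem refl_mem {a b : Vec I × Vec I} (ha : a ∈ Rc C) (hb : b ∈ Rc C) : ∃ c ∈ Rc C, c.2 = rfm a *ᵥ b.2 := by
  obtain ⟨c, h1, h2, -⟩ := R.nm (rfm a) (R.ww ▸ Submonoid.subset_closure ⟨a, ha, rfl⟩) b hb
  exact ⟨c, h1, h2.symm⟩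

/-- going up -/
theorem exists_dom (h0 : ∀ i, 0 ≤ τ i) (h1 : ∀ a ∈ Rc C, τ ⬝ᵥ a.2 ≤ n) {a : Vec I × Vec I} (ha : a ∈ Rc C)
    (h2 : τ ⬝ᵥ a.2 = n) : ∃ b ∈ Rc C, (∀ i, τ i ≠ 0 → b.2 i = a.2 i) ∧ ∀ i, 0 ≤ (b.2 ᵥ* C) i := by
  obtain ⟨b, ⟨h3, h4⟩, h5⟩ := Set.exists_max_image {b | b ∈ Rc C ∧ ∀ i, τ i ≠ 0 → b.2 i = a.2 i} (fun b => ∑ i, b.2 i)
    (R.fin.subset fun _ h => h.1) ⟨a, ha, fun _ _ => rfl⟩
  refine ⟨b, h3, h4, fun i => not_lt.1 fun h => ?_⟩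
  obtain ⟨c, h6, h7⟩ := refl_mem R (R.mem i) h3
  rw [rfm_mulVec, sp_dot] at h7
  have h8 := h1 c h6
  rw [h7, dotProduct_sub, dotProduct_smul, dot_sp, dot_congr h4, h2, smul_eq_mul] at h8
  have h9 : τ i = 0 := le_antisymm (by nlinarith) (h0 i)
  have h10 := h5 c ⟨h6, fun m hm => by
    rw [h7, Pi.sub_apply, h4 m hm, Pi.smul_apply,
      show (sp C i).2 m = 0 from Pi.single_eq_of_ne (fun e => hm (by rw [e, h9])) _, smul_zero, sub_zero]⟩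
  simp only [h7, sp, Pi.sub_apply, Pi.smul_apply, Finset.sum_sub_distrib, smul_eq_mul, ← Finset.mul_sum, Finset.sum_pi_single',
    Finset.mem_univ, if_true] at h10
  omega

/-- the fundamental alcove -/
theorem alc (H : Car C d) (hl : l.Prime) (hn : ¬ l ∣ n) (h0 : ∀ i, 0 ≤ τ i) (h1 : ∀ a ∈ Rc C, τ ⬝ᵥ a.2 ≤ n) :
    Sc l (Zt (Rc C) n τ) := fun v hv => by
  classical
  have hn0 : (0 : ℤ) < n := Int.natCast_pos.2 (Nat.pos_of_ne_zero fun e => hn (e ▸ dvd_zero l))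
  let π : Vec I → Vec I := fun β i => if τ i = 0 then 0 else β i
  have hπ : ∀ β i, τ i ≠ 0 → π β i = β i := fun β i hi => if_neg hi
  have hK : ∀ i, τ i = 0 → Pi.single i 1 ∈ span ℤ (Prod.snd '' Zt (Rc C) n τ) := fun i hi =>
    subset_span ⟨sp C i, ⟨R.mem i, by rw [dot_sp, hi]; exact dvd_zero _⟩, rfl⟩
  let T : Finset (Vec I) := (R.fin.toFinset.filter fun a => τ ⬝ᵥ a.2 = n).image fun a => π a.2
  have hT : ∀ t, t ∈ T ↔ ∃ a, (a ∈ Rc C ∧ τ ⬝ᵥ a.2 = n) ∧ π a.2 = t := fun t => by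
    simp only [T, Finset.mem_image, Finset.mem_filter, Set.Finite.mem_toFinset]
  have hp : ∀ a ∈ Rc C, τ ⬝ᵥ a.2 = n → 0 ≤ a.2 := fun a ha h => (R.pn a ha).resolve_right fun k =>
    (h ▸ hn0).not_ge (Finset.sum_nonpos fun m _ => mul_nonpos_of_nonneg_of_nonpos (h0 m) (k m))
  have hs : ∀ a ∈ Rc C, τ ⬝ᵥ a.2 = n → ∀ (ε : ℤ) i, τ i ≠ 0 → ε * a.2 i = ∑ t ∈ T, (Pi.single (π a.2) ε : Vec I → ℤ) t * t i :=
    fun a ha h ε i hi => by
      rw [Finset.sum_eq_single_of_mem (π a.2) ((hT _).2 ⟨a, ⟨ha, h⟩, rfl⟩) fun t _ k => by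
        rw [Pi.single_eq_of_ne k, zero_mul], Pi.single_eq_same, hπ _ i hi]
  refine core hl hn T (fun t ht => ?_) hK (fun t ht => ?_) (fun t ht t' ht' j k1 k2 => ?_) ?_ hv
  · obtain ⟨a, ⟨a1, a2⟩, rfl⟩ := (hT t).1 ht
    rw [← sub_add_cancel (π a.2) a.2]
    exact add_mem (mem_K hK fun i hi => sub_eq_zero.2 (hπ _ i hi)) (subset_span ⟨a, ⟨a1, a2 ▸ dvd_rfl⟩, rfl⟩)
  · obtain ⟨a, ⟨-, a2⟩, rfl⟩ := (hT t).1 ht
    rw [dot_congr (hπ _), a2]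
  · obtain ⟨a, ⟨a1, a2⟩, rfl⟩ := (hT t).1 ht
    obtain ⟨b, ⟨b1, b2⟩, rfl⟩ := (hT t').1 ht'
    obtain ⟨a', a3, a4, a5⟩ := exists_dom R h0 h1 a1 a2
    obtain ⟨b', b3, b4, b5⟩ := exists_dom R h0 h1 b1 b2
    have hj : τ j ≠ 0 := fun e => k1 (if_pos e)
    rw [← dot_congr a4] at a2
    rw [← dot_congr b4] at b2
    have h2 := fm_pos H (hp a' a3 a2) a5 b5 (j := j) (by rwa [a4 j hj, ← hπ a.2 j hj]) (by rwa [b4 j hj, ← hπ b.2 j hj])
    obtain ⟨m, h3, h4⟩ := R.len a' a3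
    rw [h4] at h2
    funext i
    by_cases hi : τ i = 0
    · exact (if_pos hi).trans (if_pos hi).symm
    rw [hπ _ i hi, hπ _ i hi, ← a4 i hi, ← b4 i hi]
    by_cases e : b' = a'
    · rw [e]
    obtain ⟨c, c1, c2⟩ := R.sub a' a3 b' b3 e ((mul_pos_iff_of_pos_left h3).1 h2)
    have h5 := zero_of h0 (R.pn c c1) (by rw [c2, dotProduct_sub, a2, b2, sub_self]) hi
    rw [c2, Pi.sub_apply] at h5
    exact (sub_eq_zero.1 h5).symm
  · rintro _ ⟨a, ⟨a1, k, a2⟩, rfl⟩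
    have h2 := h1 a a1
    have h3 := h1 _ (R.neg a a1)
    rw [Prod.snd_neg, dotProduct_neg] at h3
    have h4 : k = 0 ∨ k = 1 ∨ k = -1 := by
      have : k ≤ 1 := by nlinarith
      have : -1 ≤ k := by nlinarith
      omega
    rcases h4 with rfl | rfl | rfl
    · exact ⟨0, fun i hi => by simpa using zero_of h0 (R.pn a a1) (by rw [a2, mul_zero]) hi⟩
    · exact ⟨_, fun i hi => (one_mul _).symm.trans (hs a a1 (by rw [a2, mul_one]) 1 i hi)⟩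
    · exact ⟨_, fun i hi => Eq.trans (by simp) (hs _ (R.neg a a1) (by rw [Prod.snd_neg, dotProduct_neg, a2]; simp) (-1) i hi)⟩

theorem map_span {a : Vec I × Vec I} (ha : a ∈ Rc C) {τ' : Vec I} (h : ∀ v, τ' ⬝ᵥ (rfm a *ᵥ v) = τ ⬝ᵥ v) {v : Vec I}
    (hv : v ∈ span ℤ (Prod.snd '' Zt (Rc C) n τ)) : rfm a *ᵥ v ∈ span ℤ (Prod.snd '' Zt (Rc C) n τ') := by
  refine (span_le (p := (span ℤ (Prod.snd '' Zt (Rc C) n τ')).comap (rfm a).mulVecLin)).2 ?_ hv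
  rintro _ ⟨b, ⟨b1, b2⟩, rfl⟩
  obtain ⟨c, c1, c2⟩ := refl_mem R ha b1
  exact subset_span ⟨c, ⟨c1, by rwa [c2, h]⟩, c2⟩

theorem sc_refl {a : Vec I × Vec I} (ha : a ∈ Rc C) (h : Sc l (Zt (Rc C) n (τ ᵥ* rfm a))) : Sc l (Zt (Rc C) n τ) := fun v hv => by
  have h1 := map_span R ha (τ' := τ ᵥ* rfm a) (fun v => by rw [← dotProduct_mulVec, rfm_rfm (R.two a ha)]) hv
  rw [mulVec_smul] at h1
  have h2 := map_span R ha (τ' := τ) (fun v => dotProduct_mulVec _ _ _) (h _ h1)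
  rwa [rfm_rfm (R.two a ha)] at h2

/-- the coroots -/
noncomputable def co : Finset (Vec I) := (R.fin.image Prod.snd).toFinset

theorem mem_co {β : Vec I} : β ∈ co R ↔ ∃ a ∈ Rc C, a.2 = β := (R.fin.image Prod.snd).mem_toFinset

theorem refl_co {a : Vec I × Vec I} (ha : a ∈ Rc C) {β : Vec I} (h : β ∈ co R) : rfm a *ᵥ β ∈ co R := by
  obtain ⟨b, hb, rfl⟩ := (mem_co R).1 h
  exact (mem_co R).2 (refl_mem R ha hb)

/-- bounded labels -/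
theorem bdd (H : Car C d) (hl : l.Prime) (hn : ¬ l ∣ n) (h1 : ∀ a ∈ Rc C, τ ⬝ᵥ a.2 ≤ n) : Sc l (Zt (Rc C) n τ) := by
  classical
  induction h : ((co R).filter fun β => 0 ≤ β ∧ τ ⬝ᵥ β < 0).card using Nat.strong_induction_on generalizing τ with
  | _ k ih =>
    by_cases h0 : ∀ i, 0 ≤ τ i
    · exact alc R H hl hn h0 h1
    push Not at h0
    obtain ⟨i, hi⟩ := h0
    have h2 := rfm_rfm (R.two _ (R.mem i))
    refine sc_refl R (R.mem i) (ih _ ?_ (fun a ha => ?_) rfl)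
    · rw [← h]
      refine (Finset.card_le_card_of_injOn (fun β => rfm (sp C i) *ᵥ β) (fun β hβ => ?_) fun β _ γ _ e => ?_).trans_lt
        (Finset.card_erase_lt_of_mem (a := (sp C i).2) (Finset.mem_filter.2 ⟨(mem_co R).2 ⟨_, R.mem i, rfl⟩,
          Pi.single_nonneg.2 zero_le_one, by rwa [dot_sp]⟩))
      · obtain ⟨k1, k2, k3⟩ := Finset.mem_filter.1 hβ
        obtain ⟨b, hb, rfl⟩ := (mem_co R).1 k1
        rw [← dotProduct_mulVec] at k3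
        have k4 := R.smp i b hb k2 fun e => by
          rw [e, rfm_mulVec, R.two _ (R.mem i), dotProduct_sub, dotProduct_smul, dot_sp, smul_eq_mul] at k3
          omega
        refine Finset.mem_erase.2 ⟨fun e => ?_, Finset.mem_filter.2 ⟨refl_co R (R.mem i) k1, k4, k3⟩⟩
        have k5 := k2 i
        rw [← h2 b.2, show rfm (sp C i) *ᵥ b.2 = _ from e, rfm_mulVec, R.two _ (R.mem i)] at k5
        simp [sp] at k5
      · rw [← h2 β, ← h2 γ]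
        exact congrArg _ e
    · obtain ⟨c, c1, c2⟩ := refl_mem R (R.mem i) ha
      rw [← dotProduct_mulVec, ← c2]
      exact h1 c c1

theorem sum_refl {a : Vec I × Vec I} (ha : a ∈ Rc C) :
    2 * ∑ β ∈ co R, τ ⬝ᵥ β * (a.1 ⬝ᵥ β) = τ ⬝ᵥ a.2 * ∑ β ∈ co R, (a.1 ⬝ᵥ β) ^ 2 := by
  have h1 : ∑ β ∈ co R, τ ⬝ᵥ (rfm a *ᵥ β) * (a.1 ⬝ᵥ (rfm a *ᵥ β)) = ∑ β ∈ co R, τ ⬝ᵥ β * (a.1 ⬝ᵥ β) :=
    Finset.sum_nbij' (fun β => rfm a *ᵥ β) (fun β => rfm a *ᵥ β) (fun _ => refl_co R ha) (fun _ => refl_co R ha)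
      (fun β _ => rfm_rfm (R.two a ha) β) (fun β _ => rfm_rfm (R.two a ha) β) fun _ _ => rfl
  rw [two_mul]
  nth_rewrite 1 [← h1]
  rw [← Finset.sum_add_distrib, Finset.mul_sum]
  refine Finset.sum_congr rfl fun β _ => ?_
  rw [rfm_mulVec, dotProduct_sub, dotProduct_sub, dotProduct_smul, dotProduct_smul, R.two a ha, smul_eq_mul, smul_eq_mul]
  ring

theorem main (H : Car C d) (hl : l.Prime) (hn : ¬ l ∣ n) : Sc l (Zt (Rc C) n τ) := by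
  induction h : (∑ β ∈ co R, (τ ⬝ᵥ β) ^ 2).toNat using Nat.strong_induction_on generalizing τ with
  | _ k ih =>
    by_cases h1 : ∀ a ∈ Rc C, τ ⬝ᵥ a.2 ≤ n
    · exact bdd R H hl hn h1
    push Not at h1
    obtain ⟨a, ha, h1⟩ := h1
    have hn0 : (0 : ℤ) < n := Int.natCast_pos.2 (Nat.pos_of_ne_zero fun e => hn (e ▸ dvd_zero l))
    have h2 : Zt (Rc C) n (τ - (n : ℤ) • a.1) = Zt (Rc C) n τ := Set.ext fun b => and_congr_right fun _ => by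
      rw [sub_dotProduct, smul_dotProduct, smul_eq_mul]
      exact dvd_sub_left (dvd_mul_right _ _)
    have h3 : 0 < ∑ β ∈ co R, (a.1 ⬝ᵥ β) ^ 2 := Finset.sum_pos' (fun _ _ => sq_nonneg _)
      ⟨a.2, (mem_co R).2 ⟨a, ha, rfl⟩, by rw [R.two a ha]; norm_num⟩
    have h4 : ∑ β ∈ co R, ((τ - (n : ℤ) • a.1) ⬝ᵥ β) ^ 2 = ∑ β ∈ co R, (τ ⬝ᵥ β) ^ 2 -
        n * (2 * ∑ β ∈ co R, τ ⬝ᵥ β * (a.1 ⬝ᵥ β)) + n ^ 2 * ∑ β ∈ co R, (a.1 ⬝ᵥ β) ^ 2 := by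
      rw [Finset.mul_sum, Finset.mul_sum, Finset.mul_sum, ← Finset.sum_sub_distrib, ← Finset.sum_add_distrib]
      refine Finset.sum_congr rfl fun β _ => ?_
      rw [sub_dotProduct, smul_dotProduct, smul_eq_mul]
      ring
    rw [sum_refl R ha] at h4
    have h5 : 0 ≤ ∑ β ∈ co R, ((τ - (n : ℤ) • a.1) ⬝ᵥ β) ^ 2 := Finset.sum_nonneg fun _ _ => sq_nonneg _
    have h6 := mul_pos (mul_pos hn0 h3) (sub_pos.2 h1)
    rw [← h2]
    refine ih _ ?_ rfl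
    have h7 : ∑ β ∈ co R, ((τ - (n : ℤ) • a.1) ⬝ᵥ β) ^ 2 < ∑ β ∈ co R, (τ ⬝ᵥ β) ^ 2 := by
      rw [h4]
      linarith
    omega

end Sa

/-- **[Sat]** -/
theorem boxSat (hR : BoxRs) : BoxSat := fun C d _ _ _ H hl hn => Sa.main (hR C d H) H hl hn

end Cfsg.Agent.OM.Cu
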