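import Cfsg.Agent.OM.Cu.Defs

/-!
# OM / Cu : transport (helper11)

`Tr.comp`, `Tr.ww`, `Tr.nm_dn`, `Tr.eq_of`, `Tr.co_eq`, `Tr.eig`, `Tr.sum_eq`, `boxTr`.
-/

set_option autoImplicit false
set_option linter.unusedSectionVars false
set_option maxHeartbeats 400000

namespace Cfsg.Agent.OM.Cu

open Cfsg Matrix Cfsg.Agent.HZ.L Cfsg.Agent.BZ.TA

variable {R I S : Type} [Fintype R] [DecidableEq R] [Fintype I] [DecidableEq I] [Fintype S] [DecidableEq S]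
  {P : Matrix R I ℤ} {Φ : RS I} {Ψ : RS R} {A B : Mat I} {A' B' : Mat R} {C : Mat I} {d : I → ℤ}

namespace TrL

theorem rfm_mul {a : Vec I × Vec I} {b : Vec R × Vec R} (h1 : P *ᵥ a.2 = b.2) (h2 : b.1 ᵥ* P = a.1) :
    rfm b * P = P * rfm a := by
  rw [rfm, rfm, Matrix.sub_mul, Matrix.mul_sub, Matrix.one_mul, Matrix.mul_one, vecMulVec_mul, mul_vecMulVec, h1, h2]

theorem rfm_vec' (a : Vec R × Vec R) (v : Vec R) : rfm a *ᵥ v = v - (a.1 ⬝ᵥ v) • a.2 := by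
  rw [rfm, sub_mulVec, one_mulVec, vecMulVec_mulVec, op_smul_eq_smul]

theorem ww_up (h : ∀ a ∈ Φ, ∃ b ∈ Ψ, P *ᵥ a.2 = b.2 ∧ b.1 ᵥ* P = a.1) {w : Mat I} (hw : w ∈ WW Φ) :
    ∃ w' ∈ WW Ψ, w' * P = P * w := by
  induction hw using Submonoid.closure_induction with
  | mem x hx =>
    obtain ⟨a, ha, rfl⟩ := hx
    obtain ⟨b, hb, h1, h2⟩ := h a ha
    exact ⟨_, rfm_mem hb, rfm_mul h1 h2⟩
  | one => exact ⟨1, one_mem _, by rw [Matrix.one_mul, Matrix.mul_one]⟩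
  | mul x y _ _ hx hy =>
    obtain ⟨x', h1, h2⟩ := hx
    obtain ⟨y', h3, h4⟩ := hy
    exact ⟨_, mul_mem h1 h3, by rw [Matrix.mul_assoc, h4, ← Matrix.mul_assoc, h2, Matrix.mul_assoc]⟩

theorem nm_mul (h : Nm A' Ψ) (h' : Nm B' Ψ) : Nm (A' * B') Ψ := fun a ha => by
  obtain ⟨b, hb, h1, h2⟩ := h' a ha
  obtain ⟨c, hc, h3, h4⟩ := h b hb
  exact ⟨c, hc, by rw [← mulVec_mulVec, h1, h3], by rw [← vecMul_vecMul, h4, h2]⟩

theorem co_left {u : Mat R} (hu : u ∈ WW Ψ) (h : Co Ψ B' A') : Co Ψ B' (u * A') :=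
  let ⟨_, h1, h2⟩ := h
  ⟨_, mul_mem hu h1, by rw [h2, mul_assoc]⟩

theorem co_right (hB : Nm B' Ψ) {u : Mat R} (hu : u ∈ WW Ψ) (h : Co Ψ B' A') : Co Ψ B' (A' * u) := by
  obtain ⟨w, h1, rfl⟩ := h
  obtain ⟨u', h2, h3⟩ := ww_up hB hu
  exact ⟨_, mul_mem h1 h2, by rw [mul_assoc, mul_assoc, h3]⟩

theorem ev_rect (a : Vec R) (P : Matrix R I ℤ) (y : I → ℂ) : ev a (P.map (Int.cast : ℤ → ℂ) *ᵥ y) = ev (a ᵥ* P) y := by
  rw [ev, ev, dotProduct_mulVec]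
  congr 1
  funext i
  simp [vecMul, dotProduct]

theorem ev_sub (a : Vec R) (y z : R → ℂ) : ev a (y - z) = ev a y - ev a z := dotProduct_sub _ _ _

theorem ev_smul (a : Vec R) (μ : ℂ) (y : R → ℂ) : ev a (μ • y) = μ * ev a y := dotProduct_smul _ _ _

theorem map_mul' (X : Matrix S R ℤ) (P : Matrix R I ℤ) :
    (X * P).map (Int.cast : ℤ → ℂ) = X.map (Int.cast : ℤ → ℂ) * P.map (Int.cast : ℤ → ℂ) :=
  Matrix.map_mul (f := Int.castRingHom ℂ)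

theorem ev_ww {z : R → ℂ} (hz : ∀ b ∈ Ψ, ev b.1 z = 0) {w : Mat R} (hw : w ∈ WW Ψ) (x : Vec R) : ev (x ᵥ* w) z = ev x z := by
  induction hw using Submonoid.closure_induction generalizing x with
  | mem _ hx =>
    obtain ⟨a, ha, rfl⟩ := hx
    have h1 := hz a ha
    rw [rfm, vecMul_sub, vecMul_one, vecMul_vecMulVec]
    simp only [ev, dotProduct, Pi.sub_apply, Pi.smul_apply, smul_eq_mul, Int.cast_sub, Int.cast_mul, sub_mul, mul_assoc,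
      Finset.sum_sub_distrib, ← Finset.mul_sum] at h1 ⊢
    rw [h1, mul_zero, sub_zero]
  | one => rw [vecMul_one]
  | mul _ _ _ _ hx hy => rw [← vecMul_vecMul, hy, hx]

/-- an automorphism permutes the pairs -/
theorem nm_surj (H : Rs C d) (h : Nm A (Rc C)) : ∀ b ∈ Rc C, ∃ a ∈ Rc C, A *ᵥ a.2 = b.2 ∧ b.1 ᵥ* A = a.1 := by
  choose g g1 g2 g3 using h
  have := H.fin.to_subtype
  intro b hb
  obtain ⟨a, ha⟩ := Finite.surjective_of_injective (f := fun a : Rc C => (⟨g a a.2, g1 a a.2⟩ : Rc C))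
    (fun a a' e => Subtype.ext (H.ext' _ a.2 _ a'.2 (by
      rw [← g3 a a.2, ← g3 a' a'.2, show g a a.2 = g a' a'.2 from congrArg Subtype.val e]))) ⟨b, hb⟩
  obtain rfl : g a a.2 = b := congrArg Subtype.val ha
  exact ⟨a, a.2, g2 _ _, g3 _ _⟩

theorem exists_lift {l : ℕ} (hl : l.Prime) (h : Sat l P) (τ : Vec I) : ∃ τ' σ, τ' ᵥ* P = τ + (l : ℤ) • σ := by
  have := Fact.mk hl
  let c : ℤ → ZMod l := Int.cast
  have hc : ∀ {J : Type} (x : J → ZMod l), ∃ v : J → ℤ, c ∘ v = x := fun x =>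
    ⟨fun j => (ZMod.intCast_surjective (x j)).choose, funext fun j => (ZMod.intCast_surjective (x j)).choose_spec⟩
  obtain ⟨g, hg⟩ := LinearMap.exists_leftInverse_of_injective (toLin' (P.map c)) (LinearMap.ker_eq_bot'.2 fun x hx => by
    obtain ⟨v, rfl⟩ := hc x
    refine funext fun j => (ZMod.intCast_zmod_eq_zero_iff_dvd _ l).2 (h v (fun i => ?_) j)
    rw [← ZMod.intCast_zmod_eq_zero_iff_dvd]
    exact (RingHom.map_mulVec (Int.castRingHom (ZMod l)) P v i).trans (congrFun hx i))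
  have h1 : LinearMap.toMatrix' g * P.map c = 1 := by
    have := congrArg LinearMap.toMatrix' hg
    rwa [LinearMap.toMatrix'_comp, LinearMap.toMatrix'_toLin', LinearMap.toMatrix'_id] at this
  obtain ⟨τ', h2⟩ := hc ((c ∘ τ) ᵥ* LinearMap.toMatrix' g)
  have h3 : ∀ j, (l : ℤ) ∣ (τ' ᵥ* P) j - τ j := fun j => by
    rw [← ZMod.intCast_zmod_eq_zero_iff_dvd, Int.cast_sub, sub_eq_zero]
    refine (RingHom.map_vecMul (Int.castRingHom (ZMod l)) P τ' j).trans ?_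
    change ((c ∘ τ') ᵥ* P.map c) j = _
    rw [h2, vecMul_vecMul, h1, vecMul_one]
    rfl
  choose σ hσ using h3
  exact ⟨τ', σ, funext fun j => eq_add_of_sub_eq' (hσ j)⟩

/-- the matrix below -/
noncomputable def dn (P : Matrix R I ℤ) (A' : Mat R) : Mat I := Classical.epsilon fun X => A' * P = P * X

/-- the matrix above -/
noncomputable def up (P : Matrix R I ℤ) (Ψ : RS R) (B' : Mat R) (A : Mat I) : Mat R :=
  Classical.epsilon fun X => Co Ψ B' X ∧ X * P = P * A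

end TrL

open TrL

theorem Tr.comp {Q : Matrix S R ℤ} {Θ : RS S} (T : Tr P Φ Ψ) (T' : Tr Q Ψ Θ) : Tr (Q * P) Φ Θ where
  inj v h := T.inj v (T'.inj _ (by rwa [mulVec_mulVec]))
  up a ha := by
    obtain ⟨b, hb, h1, h2⟩ := T.up a ha
    obtain ⟨c, hc, h3, h4⟩ := T'.up b hb
    exact ⟨c, hc, by rw [← mulVec_mulVec, h1, h3], by rw [← vecMul_vecMul, h4, h2]⟩
  dn c hc := by
    obtain ⟨b, hb, h3, h4⟩ := T'.dn c hc
    obtain ⟨a, ha, h1, h2⟩ := T.dn b hb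
    exact ⟨a, ha, by rw [← mulVec_mulVec, h1, h3], by rw [← vecMul_vecMul, h4, h2]⟩
  ext := T'.ext
  nm := T'.nm

theorem Tr.ww_up (T : Tr P Φ Ψ) {w : Mat I} (hw : w ∈ WW Φ) : ∃ w' ∈ WW Ψ, w' * P = P * w := TrL.ww_up T.up hw

theorem Tr.ww_dn (T : Tr P Φ Ψ) {w' : Mat R} (hw : w' ∈ WW Ψ) : ∃ w ∈ WW Φ, w' * P = P * w := by
  induction hw using Submonoid.closure_induction with
  | mem x hx =>
    obtain ⟨b, hb, rfl⟩ := hx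
    obtain ⟨a, ha, h1, h2⟩ := T.dn b hb
    exact ⟨_, rfm_mem ha, rfm_mul h1 h2⟩
  | one => exact ⟨1, one_mem _, by rw [Matrix.one_mul, Matrix.mul_one]⟩
  | mul x y _ _ hx hy =>
    obtain ⟨x', h1, h2⟩ := hx
    obtain ⟨y', h3, h4⟩ := hy
    exact ⟨_, mul_mem h1 h3, by rw [Matrix.mul_assoc, h4, ← Matrix.mul_assoc, h2, Matrix.mul_assoc]⟩

theorem Tr.ww (T : Tr P Φ Ψ) : (∀ w ∈ WW Φ, ∃ w' ∈ WW Ψ, w' * P = P * w) ∧ ∀ w' ∈ WW Ψ, ∃ w ∈ WW Φ, w' * P = P * w :=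
  ⟨fun _ => T.ww_up, fun _ => T.ww_dn⟩

theorem Tr.inj' (T : Tr P Φ Ψ) {v v' : Vec I} (h : P *ᵥ v = P *ᵥ v') : v = v' :=
  sub_eq_zero.1 (T.inj _ (by rw [mulVec_sub, h, sub_self]))

theorem Tr.cancel (T : Tr P Φ Ψ) (h : P * A = P * B) : A = B :=
  Matrix.ext_iff_mulVec.2 fun v => T.inj' (by rw [mulVec_mulVec, mulVec_mulVec, h])

theorem Tr.dn_eq (T : Tr P Φ Ψ) (h : A' * P = P * A) : TrL.dn P A' = A :=
  T.cancel ((Classical.epsilon_spec (p := fun X => A' * P = P * X) ⟨A, h⟩).symm.trans h)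

theorem Tr.nm_ww (T : Tr P Φ Ψ) {w : Mat R} (hw : w ∈ WW Ψ) : Nm w Ψ := by
  induction hw using Submonoid.closure_induction with
  | mem x hx =>
    obtain ⟨b, hb, rfl⟩ := hx
    exact T.nm b hb
  | one => exact fun a ha => ⟨a, ha, one_mulVec _, vecMul_one _⟩
  | mul x y _ _ hx hy => exact nm_mul hx hy

theorem Tr.nm_co (T : Tr P Φ Ψ) (hB : Nm B' Ψ) (h : Co Ψ B' A') : Nm A' Ψ :=
  let ⟨_, h1, h2⟩ := h
  h2 ▸ nm_mul (T.nm_ww h1) hB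

theorem Tr.nm_dn (T : Tr P Φ Ψ) (h : B' * P = P * B) (hB : Nm B' Ψ) : Nm B Φ := fun a ha => by
  obtain ⟨b, hb, h1, h2⟩ := T.up a ha
  obtain ⟨b', hb', h3, h4⟩ := hB b hb
  obtain ⟨a', ha', h5, h6⟩ := T.dn b' hb'
  exact ⟨a', ha', T.inj' (by rw [mulVec_mulVec, ← h, ← mulVec_mulVec, h1, h3, h5]),
    by rw [← h6, vecMul_vecMul, ← h, ← vecMul_vecMul, h4, h2]⟩

theorem Tr.co_up (T : Tr P Φ Ψ) (h : B' * P = P * B) (hA : Co Φ B A) : ∃ A', Co Ψ B' A' ∧ A' * P = P * A := by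
  obtain ⟨w, h1, rfl⟩ := hA
  obtain ⟨w', h2, h3⟩ := T.ww_up h1
  exact ⟨_, ⟨w', h2, rfl⟩, by rw [Matrix.mul_assoc, h, ← Matrix.mul_assoc, h3, Matrix.mul_assoc]⟩

theorem Tr.co_dn (T : Tr P Φ Ψ) (h : B' * P = P * B) (hA : Co Ψ B' A') : ∃ A, Co Φ B A ∧ A' * P = P * A := by
  obtain ⟨w', h1, rfl⟩ := hA
  obtain ⟨w, h2, h3⟩ := T.ww_dn h1
  exact ⟨_, ⟨w, h2, rfl⟩, by rw [Matrix.mul_assoc, h, ← Matrix.mul_assoc, h3, Matrix.mul_assoc]⟩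

theorem Tr.inv (T : Tr P (Rc C) Ψ) (H : Rs C d) {w : Mat R} (hw : w ∈ WW Ψ) : ∃ u ∈ WW Ψ, u * w = 1 := by
  induction hw using Submonoid.closure_induction with
  | mem x hx =>
    obtain ⟨b, hb, rfl⟩ := hx
    obtain ⟨a, ha, h1, h2⟩ := T.dn b hb
    have h3 : b.1 ⬝ᵥ b.2 = 2 := by rw [← h1, dotProduct_mulVec, h2, H.two a ha]
    refine ⟨_, rfm_mem hb, Matrix.ext_iff_mulVec.2 fun v => ?_⟩
    rw [← mulVec_mulVec, one_mulVec, rfm_vec', rfm_vec', dotProduct_sub, dotProduct_smul, h3, smul_eq_mul]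
    module
  | one => exact ⟨1, one_mem _, one_mul _⟩
  | mul x y _ _ hx hy =>
    obtain ⟨x', h1, h2⟩ := hx
    obtain ⟨y', h3, h4⟩ := hy
    exact ⟨_, mul_mem h3 h1, by rw [mul_assoc, ← mul_assoc x', h2, one_mul, h4]⟩

theorem Tr.sub_mem (T : Tr P Φ Ψ) {w : Mat R} (hw : w ∈ WW Ψ) (v : Vec R) : ∃ β, w *ᵥ v = v + P *ᵥ β := by
  induction hw using Submonoid.closure_induction generalizing v with
  | mem x hx =>
    obtain ⟨b, hb, rfl⟩ := hx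
    obtain ⟨a, -, h1, -⟩ := T.dn b hb
    refine ⟨-(b.1 ⬝ᵥ v) • a.2, ?_⟩
    rw [mulVec_smul, h1, rfm_vec', neg_smul, sub_eq_add_neg]
  | one => exact ⟨0, by rw [one_mulVec, mulVec_zero, add_zero]⟩
  | mul x y _ _ hx hy =>
    obtain ⟨β, h1⟩ := hy v
    obtain ⟨γ, h2⟩ := hx (y *ᵥ v)
    exact ⟨β + γ, by rw [← mulVec_mulVec, h2, h1, mulVec_add, add_assoc]⟩

/-- an element of the Weyl group is determined by its action on the coroots -/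
theorem Tr.eq_of (T : Tr P (Rc C) Ψ) (H : Rs C d) {w w' : Mat R} (hw : w ∈ WW Ψ) (hw' : w' ∈ WW Ψ) (h : w * P = w' * P) :
    w = w' := by
  obtain ⟨u, h1, h2⟩ := T.inv H hw
  have h3 : u * w' * P = P := by rw [Matrix.mul_assoc, ← h, ← Matrix.mul_assoc, h2, Matrix.one_mul]
  have h4 := mul_mem h1 hw'
  suffices h5 : u * w' = 1 by rw [← mul_one w, ← h5, ← mul_assoc, mul_eq_one_comm.1 h2, one_mul]
  generalize u * w' = x at h3 h4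
  refine Matrix.ext_iff_mulVec.2 fun v => ?_
  obtain ⟨β, h5⟩ := T.sub_mem h4 v
  rw [h5, H.top β fun a ha => ?_, mulVec_zero, add_zero, one_mulVec]
  obtain ⟨b, hb, h6, h7⟩ := T.up a ha
  obtain ⟨b', hb', h8, h9⟩ := T.nm_ww h4 b hb
  obtain rfl := T.ext b hb b' hb' (by rw [← h8, ← h6, mulVec_mulVec, h3])
  have h10 := congrArg (b.1 ⬝ᵥ ·) h5
  simp only [dotProduct_add, dotProduct_mulVec, h9, h7] at h10
  exact left_eq_add.1 h10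

/-- an element of the coset is determined by its action on the coroots -/
theorem Tr.co_eq (T : Tr P (Rc C) Ψ) (H : Rs C d) (h : B' * P = P * B) (hB : Nm B' Ψ) {X Y : Mat R} (hX : Co Ψ B' X)
    (hY : Co Ψ B' Y) (e : X * P = Y * P) : X = Y := by
  obtain ⟨w, h1, rfl⟩ := hX
  obtain ⟨w', h2, rfl⟩ := hY
  rw [T.eq_of H h1 h2 (Matrix.ext fun i j => ?_)]
  obtain ⟨a, -, h3, -⟩ := nm_surj H (T.nm_dn h hB) _ (H.mem j)
  have h4 := congrArg (· *ᵥ a.2) e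
  simp only [Matrix.mul_assoc, h] at h4
  simp only [← Matrix.mul_assoc, ← mulVec_mulVec a.2 _ B, h3, sp, mulVec_single_one] at h4
  exact congrFun h4 i

theorem Tr.up_eq (T : Tr P (Rc C) Ψ) (H : Rs C d) (h : B' * P = P * B) (hB : Nm B' Ψ) (hA : Co Ψ B' A')
    (e : A' * P = P * A) : TrL.up P Ψ B' A = A' :=
  have h1 := Classical.epsilon_spec (p := fun X => Co Ψ B' X ∧ X * P = P * A) ⟨A', hA, e⟩
  T.co_eq H h hB h1.1 hA (h1.2.trans e.symm)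

/-- the decomposition of a complex vector -/
theorem Tr.dec (T : Tr P (Rc C) Ψ) (H : Rs C d) (y' : R → ℂ) :
    ∃ y, ∀ b ∈ Ψ, ev b.1 (y' - P.map (Int.cast : ℤ → ℂ) *ᵥ y) = 0 := by
  choose b b1 b2 b3 using fun i => T.up _ (H.mem i)
  have key : ∀ z, (∀ i, ev (b i).1 z = 0) → ∀ c ∈ Ψ, ev c.1 z = 0 := fun z hz c hc => by
    obtain ⟨a, ⟨w, h1, i, h2, -⟩, h3, -⟩ := T.dn c hc
    obtain ⟨w', h4, h5⟩ := TrL.ww_up (Ψ := Set.range b) (P := P) (by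
      rintro _ ⟨j, rfl⟩
      exact ⟨_, ⟨j, rfl⟩, b2 j, b3 j⟩) h1
    obtain ⟨c', h6, h7, h8⟩ := T.nm_ww (WW_mono (Set.range_subset_iff.2 b1) h4) _ (b1 i)
    obtain rfl := T.ext c hc c' h6 (by rw [← h7, ← b2, mulVec_mulVec, h5, ← mulVec_mulVec, h2, h3])
    rw [← ev_ww (Set.forall_mem_range.2 hz) h4, h8, hz]
  let L : (I → ℂ) →ₗ[ℂ] I → ℂ := LinearMap.pi fun i => dotProductBilin ℂ ℂ fun j => ((sp C i).1 j : ℂ)
  have hL : ∀ y i, L y i = ev (b i).1 (P.map (Int.cast : ℤ → ℂ) *ᵥ y) := fun y i => by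
    rw [ev_rect, b3]
    rfl
  obtain ⟨y, hy⟩ := LinearMap.surjective_of_injective (f := L) (LinearMap.ker_eq_bot.1 (LinearMap.ker_eq_bot'.2 fun y hy =>
    H.topC y fun a ha => by
      obtain ⟨c, hc, -, h1⟩ := T.up a ha
      rw [← h1, ← ev_rect]
      exact key _ (fun i => (hL y i).symm.trans (congrFun hy i)) c hc)) fun i => ev (b i).1 y'
  exact ⟨y, key _ fun i => by rw [ev_sub, ← hL, hy, sub_self]⟩

theorem Tr.eig_up (T : Tr P Φ Ψ) (h : A' * P = P * A) {μ : ℂ} (e : Eig Φ A μ) : Eig Ψ A' μ := by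
  obtain ⟨y, h1, a, ha, h2⟩ := e
  obtain ⟨b, hb, -, h3⟩ := T.up a ha
  refine ⟨P.map (Int.cast : ℤ → ℂ) *ᵥ y, ?_, b, hb, by rwa [ev_rect, h3]⟩
  rw [IsE, mulVec_mulVec, ← map_mul', h, map_mul', ← mulVec_mulVec, h1, mulVec_smul]

/-- the eigenvalues correspond -/
theorem Tr.eig (T : Tr P (Rc C) Ψ) (H : Rs C d) (h : A' * P = P * A) (hn : Nm A' Ψ) {μ : ℂ} :
    Eig (Rc C) A μ ↔ Eig Ψ A' μ := by
  refine ⟨T.eig_up h, fun ⟨y', h1, b, hb, h2⟩ => ?_⟩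
  obtain ⟨y, hy⟩ := T.dec H y'
  have h3 : ∀ c ∈ Ψ, ev (c.1 ᵥ* P) y = ev c.1 y' := fun c hc => by
    have := hy c hc
    rw [ev_sub, ev_rect] at this
    exact (sub_eq_zero.1 this).symm
  obtain ⟨a, ha, -, h4⟩ := T.dn b hb
  refine ⟨y, sub_eq_zero.1 (H.topC _ fun a' ha' => ?_), a, ha, by rwa [← h4, h3 b hb]⟩
  obtain ⟨a'', ha'', h5, h6⟩ := nm_surj H (T.nm_dn h hn) a' ha'
  obtain ⟨c', hc', h7, h8⟩ := T.up a' ha'
  obtain ⟨c'', hc'', h9, h10⟩ := T.up a'' ha''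
  obtain ⟨c, hc, h11, h12⟩ := hn c'' hc''
  obtain rfl := T.ext c hc c' hc' (by rw [← h11, ← h9, mulVec_mulVec, h, ← mulVec_mulVec, h5, h7])
  rw [ev_sub, ev_smul, ev_mul, h6, ← h10, ← h8, h3 _ hc'', h3 _ hc, ← h12, ← ev_mul, h1, ev_smul, sub_self]

/-- the sums over the reflections correspond -/
theorem Tr.sum_eq (T : Tr P (Rc C) Ψ) (H : Rs C d) {l : ℕ} {τ σ : Vec I} {τ' : Vec R} (hτ : τ' ᵥ* P = τ + (l : ℤ) • σ)
    {F : Mat I → ℂ} {F' : Mat R → ℂ} (h : ∀ ρ ∈ WW (Rc C), ∀ ρ' ∈ WW Ψ, ρ' * P = P * ρ → F' ρ' = F ρ) :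
    ∑ᶠ ρ ∈ rfm '' Zt Ψ l τ', F' ρ = ∑ᶠ ρ ∈ rfm '' Zt (Rc C) l τ, F ρ := by
  have h1 : ∀ {a : Vec I × Vec I} {b : Vec R × Vec R}, P *ᵥ a.2 = b.2 → ((l : ℤ) ∣ τ' ⬝ᵥ b.2 ↔ (l : ℤ) ∣ τ ⬝ᵥ a.2) := fun e => by
    rw [← e, dotProduct_mulVec, hτ, add_dotProduct, smul_dotProduct, smul_eq_mul]
    exact Int.dvd_add_left (dvd_mul_right _ _)
  refine finsum_mem_eq_of_bijOn (TrL.dn P) ⟨?_, ?_, ?_⟩ ?_
  · rintro _ ⟨b, hb, rfl⟩
    obtain ⟨a, ha, h2, h3⟩ := T.dn b hb.1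
    exact ⟨a, ⟨ha, (h1 h2).1 hb.2⟩, (T.dn_eq (rfm_mul h2 h3)).symm⟩
  · rintro _ ⟨b, hb, rfl⟩ _ ⟨b', hb', rfl⟩ e
    obtain ⟨a, ha, h2, h3⟩ := T.dn b hb.1
    obtain ⟨a', ha', h4, h5⟩ := T.dn b' hb'.1
    rw [T.dn_eq (rfm_mul h2 h3), T.dn_eq (rfm_mul h4 h5)] at e
    exact T.eq_of H (rfm_mem hb.1) (rfm_mem hb'.1) (by rw [rfm_mul h2 h3, rfm_mul h4 h5, e])
  · rintro _ ⟨a, ha, rfl⟩
    obtain ⟨b, hb, h2, h3⟩ := T.up a ha.1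
    exact ⟨_, ⟨b, ⟨hb, (h1 h2).2 ha.2⟩, rfl⟩, T.dn_eq (rfm_mul h2 h3)⟩
  · rintro _ ⟨b, hb, rfl⟩
    obtain ⟨a, ha, h2, h3⟩ := T.dn b hb.1
    rw [T.dn_eq (rfm_mul h2 h3)]
    exact h _ (rfm_mem ha) _ (rfm_mem hb.1) (rfm_mul h2 h3)

theorem Tr.ft (T : Tr P Φ Ψ) (h : A' * P = P * A) {q : ℤ} {l : ℕ} {τ σ : Vec I} {τ' : Vec R}
    (hτ : τ' ᵥ* P = τ + (l : ℤ) • σ) : Ft Φ q l A τ ↔ Ft Ψ q l A' τ' := by
  have h1 : ∀ {a : Vec I × Vec I} {b : Vec R × Vec R}, P *ᵥ a.2 = b.2 →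
      ((l : ℤ) ∣ (q • (τ' ᵥ* A') - τ') ⬝ᵥ b.2 ↔ (l : ℤ) ∣ (q • (τ ᵥ* A) - τ) ⬝ᵥ a.2) := fun {a b} e => by
    rw [← e, dotProduct_mulVec, sub_vecMul, smul_vecMul, vecMul_vecMul, h, ← vecMul_vecMul, hτ, add_vecMul, smul_vecMul,
      show q • (τ ᵥ* A + (l : ℤ) • (σ ᵥ* A)) - (τ + (l : ℤ) • σ) = q • (τ ᵥ* A) - τ + (l : ℤ) • (q • (σ ᵥ* A) - σ) by module,
      add_dotProduct, smul_dotProduct, smul_eq_mul]
    exact Int.dvd_add_left (dvd_mul_right _ _)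
  exact ⟨fun e b hb => let ⟨a, ha, h2, _⟩ := T.dn b hb; (h1 h2).2 (e a ha),
    fun e a ha => let ⟨b, hb, h2, _⟩ := T.up a ha; (h1 h2).1 (e b hb)⟩

theorem Tr.mul {X : Mat I} {X' : Mat R} (h : X' * P = P * X) (h' : A' * P = P * A) : X' * A' * P = P * (X * A) := by
  rw [Matrix.mul_assoc, h', ← Matrix.mul_assoc, h, Matrix.mul_assoc]

theorem Tr.cu_dn (T : Tr P (Rc C) Ψ) (H : Rs C d) (h : B' * P = P * B) (hB : Nm B' Ψ) {l : ℕ} (hc : Cu l Ψ B') :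
    Cu l (Rc C) B := fun q d' e f hq Y A hA hf μ hμ he => by
  obtain ⟨A', h1, h2⟩ := T.co_up h hA
  refine hc q d' e (fun X => f (TrL.dn P X)) hq ⟨fun u hu X hX => ?_, fun X hX hb => ?_, fun X hX hb τ hτ => ?_⟩ A' h1
    (by rwa [T.dn_eq h2]) μ hμ (T.eig_up h2 he)
  all_goals obtain ⟨X₀, h3, h4⟩ := T.co_dn h hX
  · obtain ⟨u₀, h5, h6⟩ := T.ww_dn hu
    rw [T.dn_eq (Tr.mul h6 h4), T.dn_eq (Tr.mul h4 h6), Y.cj u₀ h5 X₀ h3]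
  · rw [T.dn_eq h4]
    exact Y.bad X₀ h3 (hb.imp fun _ hb => ⟨hb.1, (T.eig H h4 (T.nm_co hB hX)).2 hb.2⟩)
  · have h5 : τ ᵥ* P = τ ᵥ* P + (l : ℤ) • 0 := by rw [smul_zero, add_zero]
    rw [T.sum_eq H h5 (F := fun ρ => f (ρ * X₀)) fun ρ _ ρ' _ e => by rw [T.dn_eq (Tr.mul e h4)]]
    exact Y.rel X₀ h3 (hb.imp fun _ hb => ⟨hb.1, (T.eig H h4 (T.nm_co hB hX)).2 hb.2⟩) _ ((T.ft h4 h5).2 hτ)

theorem Tr.cu_up (T : Tr P (Rc C) Ψ) (H : Rs C d) (h : B' * P = P * B) (hB : Nm B' Ψ) {l : ℕ} (hs : Sat l P)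
    (hc : Cu l (Rc C) B) : Cu l Ψ B' := fun q d' e f hq Y A' hA hf μ hμ he => by
  obtain ⟨A, h1, h2⟩ := T.co_dn h hA
  refine hc q d' e (fun X => f (TrL.up P Ψ B' X)) hq ⟨fun u hu X hX => ?_, fun X hX hb => ?_, fun X hX hb τ hτ => ?_⟩ A h1
    (by rwa [T.up_eq H h hB hA h2]) μ hμ ((T.eig H h2 (T.nm_co hB hA)).2 he)
  all_goals obtain ⟨X', h3, h4⟩ := T.co_up h hX
  · obtain ⟨u', h5, h6⟩ := T.ww_up hu
    rw [T.up_eq H h hB (co_left h5 h3) (Tr.mul h6 h4), T.up_eq H h hB (co_right hB h5 h3) (Tr.mul h4 h6), Y.cj u' h5 X' h3]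
  · rw [T.up_eq H h hB h3 h4]
    exact Y.bad X' h3 (hb.imp fun _ hb => ⟨hb.1, T.eig_up h4 hb.2⟩)
  · obtain ⟨τ', σ, h5⟩ := exists_lift hq.lp hs τ
    rw [← T.sum_eq H h5 (F' := fun ρ => f (ρ * X')) fun ρ _ ρ' h6 e => by
      rw [T.up_eq H h hB (co_left h6 h3) (Tr.mul e h4)]]
    exact Y.rel X' h3 (hb.imp fun _ hb => ⟨hb.1, T.eig_up h4 hb.2⟩) _ ((T.ft h4 h5).1 hτ)

/-- **transport** -/
theorem boxTr (hR : BoxRs) : BoxTr := fun C d _ _ _ _ _ hC T h hB =>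
  ⟨T.nm_dn h hB, T.cu_dn (hR C d hC) h hB, T.cu_up (hR C d hC) h hB⟩

end Cfsg.Agent.OM.Cu
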