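import Cfsg.Agent.OM.Cu.Defs

/-!
# OM / Cu : the standard Cartan matrices `G₂ F₄ D₄ E₆ E₇ E₈` and their diagram automorphisms (helper55)
-/

set_option autoImplicit false

namespace Cfsg.Agent.OM.Cu.Eng

open Cfsg Matrix Cfsg.Agent.HZ.L Cfsg.Agent.BZ.TA Cfsg.Agent.BZ.TA.Cl Finset

theorem car_of {n : ℕ} {C : Mat (Fin n)} {d : Fin n → ℤ} (N : ℤ) (a : Fin n → ℤ) (L : Mat (Fin n)) (hN : 0 < N)
    (h1 : ∀ i, C i i = 2 ∧ 0 < d i ∧ 0 < a i ∧ L i i ≠ 0)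
    (h2 : ∀ i j, (i = j ∨ 1 * C i j ≤ 0) ∧ d j * C i j = d i * C j i) (h3 : ∀ i j, i ≤ j ∨ 1 * L i j = 0)
    (h4 : ∀ i j, N * (d i * C j i) = ∑ k, a k * L k i * L k j) : Car C d := by
  refine ⟨fun i => (h1 i).1, fun i j h => one_mul (C i j) ▸ (h2 i j).1.resolve_left h, fun i => (h1 i).2.1, fun i j => (h2 i j).2, fun β hβ => ?_⟩
  have e : N * ∑ i, β i * d i * (β ᵥ* C) i = ∑ k, a k * (L *ᵥ β) k ^ 2 := by
    calc _ = ∑ i, ∑ j, β i * β j * (N * (d i * C j i)) := by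
          simp only [vecMul, dotProduct, mul_sum]
          exact sum_congr rfl fun i _ => sum_congr rfl fun j _ => by ring
      _ = ∑ i, ∑ j, ∑ k, β i * β j * (a k * L k i * L k j) := by simp only [h4, mul_sum]
      _ = ∑ k, ∑ i, ∑ j, β i * β j * (a k * L k i * L k j) := by
          rw [sum_congr rfl fun i _ => sum_comm, sum_comm]
      _ = _ := by
          simp only [mulVec, dotProduct, sq, sum_mul_sum]
          simp only [mul_sum]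
          exact sum_congr rfl fun k _ => sum_congr rfl fun i _ => sum_congr rfl fun j _ => by ring
  have hL : L.det ≠ 0 := by
    rw [det_of_isUpperTriangular fun i j h => one_mul (L i j) ▸ (h3 i j).resolve_left (not_le.2 h)]
    exact prod_ne_zero_iff.2 fun i _ => (h1 i).2.2.2
  obtain ⟨k, hk⟩ := Function.ne_iff.1 (mt (eq_zero_of_mulVec_eq_zero hL) hβ)
  refine (mul_pos_iff_of_pos_left hN).1 (e ▸ sum_pos' (fun k _ => mul_nonneg (h1 k).2.2.1.le (sq_nonneg _)) ⟨k, mem_univ _, ?_⟩)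
  exact mul_pos (h1 k).2.2.1 (sq_pos_of_ne_zero hk)

theorem carG2 : Car (cm 2 (c2 (-1) (-3))) ![1, 3] :=
  car_of 2 ![1, 3]
    !![2, -3; 0, 1]
    (by decide) (by decide +kernel) (by decide +kernel) (by decide +kernel) (by decide +kernel)

theorem carF4 : Car (cm 4 (cF (-1) (-2))) ![1, 1, 2, 2] :=
  car_of 6 ![3, 1, 2, 6]
    !![2, -1, 0, 0; 0, 3, -4, 0; 0, 0, 2, -3; 0, 0, 0, 1]
    (by decide) (by decide +kernel) (by decide +kernel) (by decide +kernel) (by decide +kernel)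

theorem carD4 : Car (cm 4 (cT 1 4)) ![1, 1, 1, 1] :=
  car_of 6 ![3, 1, 2, 6]
    !![2, -1, 0, 0; 0, 3, -2, -2; 0, 0, 2, -1; 0, 0, 0, 1]
    (by decide) (by decide +kernel) (by decide +kernel) (by decide +kernel) (by decide +kernel)

theorem carE6 : Car (cm 6 (cT 2 6)) ![1, 1, 1, 1, 1, 1] :=
  car_of 60 ![30, 10, 5, 3, 18, 30]
    !![2, -1, 0, 0, 0, 0; 0, 3, -2, 0, 0, 0; 0, 0, 4, -3, 0, -3; 0, 0, 0, 5, -4, -3; 0, 0, 0, 0, 2, -1; 0, 0, 0, 0, 0, 1]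
    (by decide) (by decide +kernel) (by decide +kernel) (by decide +kernel) (by decide +kernel)

theorem carE7 : Car (cm 7 (cT 2 7)) ![1, 1, 1, 1, 1, 1, 1] :=
  car_of 420 ![210, 70, 35, 21, 14, 10, 120]
    !![2, -1, 0, 0, 0, 0, 0; 0, 3, -2, 0, 0, 0, 0; 0, 0, 4, -3, 0, 0, -3; 0, 0, 0, 5, -4, 0, -3; 0, 0, 0, 0, 6, -5, -3; 0, 0, 0, 0, 0, 7, -3; 0, 0, 0, 0, 0, 0, 1]
    (by decide) (by decide +kernel) (by decide +kernel) (by decide +kernel) (by decide +kernel)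

theorem carE8 : Car (cm 8 (cT 2 8)) ![1, 1, 1, 1, 1, 1, 1, 1] :=
  car_of 840 ![420, 140, 70, 42, 28, 20, 15, 105]
    !![2, -1, 0, 0, 0, 0, 0, 0; 0, 3, -2, 0, 0, 0, 0, 0; 0, 0, 4, -3, 0, 0, 0, -3; 0, 0, 0, 5, -4, 0, 0, -3; 0, 0, 0, 0, 6, -5, 0, -3; 0, 0, 0, 0, 0, 7, -6, -3; 0, 0, 0, 0, 0, 0, 8, -3; 0, 0, 0, 0, 0, 0, 0, 1]
    (by decide) (by decide +kernel) (by decide +kernel) (by decide +kernel) (by decide +kernel)

theorem autG2 : ∀ π : Equiv.Perm (Fin 2), (∀ i j, c2 (-1) (-3) (π i) (π j) = c2 (-1) (-3) i j) → π = 1 := by decide +kernel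

theorem autF4 : ∀ π : Equiv.Perm (Fin 4), (∀ i j, cF (-1) (-2) (π i) (π j) = cF (-1) (-2) i j) → π = 1 := by decide +kernel

theorem autD4 : ∀ π : Equiv.Perm (Fin 4), π ^ 3 = 1 → π ≠ 1 → (∀ i j, cT 1 4 (π i) (π j) = cT 1 4 i j) →
    π = Equiv.swap 0 2 * Equiv.swap 2 3 ∨ π = Equiv.swap 0 3 * Equiv.swap 3 2 := by decide +kernel

theorem autE6 : ∀ π : Equiv.Perm (Fin 6), (∀ i j, cT 2 6 (π i) (π j) = cT 2 6 i j) →
    π = 1 ∨ π = Equiv.swap 0 4 * Equiv.swap 1 3 := by decide +kernel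

theorem autE7 (π : Equiv.Perm (Fin 7)) (h : ∀ i j, cT 2 7 (π i) (π j) = cT 2 7 i j) : π = 1 := by
  have k : ∀ a b : Fin 7, cT 2 7 a b = -1 → ∀ c : Fin 7, cT 2 7 b c = -1 → cT 2 7 a c = 0 → ∀ d : Fin 7, cT 2 7 c d = -1 →
      cT 2 7 b d = 0 → ∀ x : Fin 7, cT 2 7 c x = -1 → cT 2 7 b x = 0 → cT 2 7 d x = 0 → ∀ e : Fin 7, cT 2 7 d e = -1 →
      cT 2 7 c e = 0 → ∀ f : Fin 7, cT 2 7 e f = -1 → cT 2 7 d f = 0 → ∀ i, ![a, b, c, d, e, f, x] i = i := by decide +kernel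
  have e := k _ _ (h 0 1) _ (h 1 2) (h 0 2) _ (h 2 3) (h 1 3) _ (h 2 6) (h 1 6) (h 3 6) _ (h 3 4) (h 2 4) _ (h 4 5) (h 3 5)
  ext i
  fin_cases i
  exacts [congrArg _ (e 0), congrArg _ (e 1), congrArg _ (e 2), congrArg _ (e 3), congrArg _ (e 4), congrArg _ (e 5), congrArg _ (e 6)]

theorem autE8 (π : Equiv.Perm (Fin 8)) (h : ∀ i j, cT 2 8 (π i) (π j) = cT 2 8 i j) : π = 1 := by
  have k : ∀ a b : Fin 8, cT 2 8 a b = -1 → ∀ c : Fin 8, cT 2 8 b c = -1 → cT 2 8 a c = 0 → ∀ d : Fin 8, cT 2 8 c d = -1 →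
      cT 2 8 b d = 0 → ∀ x : Fin 8, cT 2 8 c x = -1 → cT 2 8 b x = 0 → cT 2 8 d x = 0 → ∀ e : Fin 8, cT 2 8 d e = -1 →
      cT 2 8 c e = 0 → ∀ f : Fin 8, cT 2 8 e f = -1 → cT 2 8 d f = 0 → ∀ g : Fin 8, cT 2 8 f g = -1 → cT 2 8 e g = 0 →
      ∀ i, ![a, b, c, d, e, f, g, x] i = i := by decide +kernel
  have e := k _ _ (h 0 1) _ (h 1 2) (h 0 2) _ (h 2 3) (h 1 3) _ (h 2 7) (h 1 7) (h 3 7) _ (h 3 4) (h 2 4) _ (h 4 5) (h 3 5) _
    (h 5 6) (h 4 6)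
  ext i
  fin_cases i
  exacts [congrArg _ (e 0), congrArg _ (e 1), congrArg _ (e 2), congrArg _ (e 3), congrArg _ (e 4), congrArg _ (e 5), congrArg _ (e 6),
    congrArg _ (e 7)]

end Cfsg.Agent.OM.Cu.Eng
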