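import Cfsg.Agent.OM.Cu.EngX
import Cfsg.Agent.OM.Cu.Asm
import Cfsg.Agent.OM.Cu.T95C
import Cfsg.Agent.OM.Cu.T95R7
import Cfsg.Agent.OM.Cu.T95R8a
import Cfsg.Agent.OM.Cu.T95R8b
import Cfsg.Agent.OM.Cu.T95R8c
import Cfsg.Agent.OM.Cu.T95R8d

/-!
# OM / Cu : `E₇`, `E₈` and the exceptional box (helper95)
-/

set_option autoImplicit false

namespace Cfsg.Agent.OM.Cu.T95

open Cfsg.Agent.BZ.TA Cfsg.Agent.BZ.TA.Cl Eng

theorem okE7 (i : ℕ) (hi : i < tE7.K) : tE7.RowOk i := by
  have hK : i < 60 := hi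
  by_cases h1 : i < 1
  · exact Tb.rows_ok rowsE7_0 i (by omega) h1
  by_cases h2 : i < 2
  · exact Tb.rows_ok rowsE7_1 i (by omega) h2
  by_cases h3 : i < 3
  · exact Tb.rows_ok rowsE7_2 i (by omega) h3
  by_cases h4 : i < 4
  · exact Tb.rows_ok rowsE7_3 i (by omega) h4
  by_cases h5 : i < 5
  · exact Tb.rows_ok rowsE7_4 i (by omega) h5
  by_cases h6 : i < 6
  · exact Tb.rows_ok rowsE7_5 i (by omega) h6
  by_cases h7 : i < 7
  · exact Tb.rows_ok rowsE7_6 i (by omega) h7
  by_cases h8 : i < 8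
  · exact Tb.rows_ok rowsE7_7 i (by omega) h8
  by_cases h9 : i < 9
  · exact Tb.rows_ok rowsE7_8 i (by omega) h9
  by_cases h10 : i < 10
  · exact Tb.rows_ok rowsE7_9 i (by omega) h10
  by_cases h11 : i < 11
  · exact Tb.rows_ok rowsE7_10 i (by omega) h11
  by_cases h12 : i < 12
  · exact Tb.rows_ok rowsE7_11 i (by omega) h12
  by_cases h13 : i < 13
  · exact Tb.rows_ok rowsE7_12 i (by omega) h13
  by_cases h14 : i < 14
  · exact Tb.rows_ok rowsE7_13 i (by omega) h14
  by_cases h15 : i < 15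
  · exact Tb.rows_ok rowsE7_14 i (by omega) h15
  by_cases h16 : i < 16
  · exact Tb.rows_ok rowsE7_15 i (by omega) h16
  by_cases h17 : i < 17
  · exact Tb.rows_ok rowsE7_16 i (by omega) h17
  by_cases h18 : i < 18
  · exact Tb.rows_ok rowsE7_17 i (by omega) h18
  by_cases h19 : i < 19
  · exact Tb.rows_ok rowsE7_18 i (by omega) h19
  by_cases h20 : i < 20
  · exact Tb.rows_ok rowsE7_19 i (by omega) h20
  by_cases h21 : i < 21
  · exact Tb.rows_ok rowsE7_20 i (by omega) h21
  by_cases h22 : i < 22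
  · exact Tb.rows_ok rowsE7_21 i (by omega) h22
  by_cases h23 : i < 23
  · exact Tb.rows_ok rowsE7_22 i (by omega) h23
  by_cases h24 : i < 24
  · exact Tb.rows_ok rowsE7_23 i (by omega) h24
  by_cases h25 : i < 25
  · exact Tb.rows_ok rowsE7_24 i (by omega) h25
  by_cases h26 : i < 26
  · exact Tb.rows_ok rowsE7_25 i (by omega) h26
  by_cases h27 : i < 27
  · exact Tb.rows_ok rowsE7_26 i (by omega) h27
  by_cases h28 : i < 28
  · exact Tb.rows_ok rowsE7_27 i (by omega) h28
  by_cases h29 : i < 29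
  · exact Tb.rows_ok rowsE7_28 i (by omega) h29
  by_cases h30 : i < 30
  · exact Tb.rows_ok rowsE7_29 i (by omega) h30
  by_cases h31 : i < 31
  · exact Tb.rows_ok rowsE7_30 i (by omega) h31
  by_cases h32 : i < 32
  · exact Tb.rows_ok rowsE7_31 i (by omega) h32
  by_cases h33 : i < 33
  · exact Tb.rows_ok rowsE7_32 i (by omega) h33
  by_cases h34 : i < 34
  · exact Tb.rows_ok rowsE7_33 i (by omega) h34
  by_cases h35 : i < 35
  · exact Tb.rows_ok rowsE7_34 i (by omega) h35
  by_cases h36 : i < 36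
  · exact Tb.rows_ok rowsE7_35 i (by omega) h36
  by_cases h37 : i < 37
  · exact Tb.rows_ok rowsE7_36 i (by omega) h37
  by_cases h38 : i < 38
  · exact Tb.rows_ok rowsE7_37 i (by omega) h38
  by_cases h39 : i < 39
  · exact Tb.rows_ok rowsE7_38 i (by omega) h39
  by_cases h40 : i < 40
  · exact Tb.rows_ok rowsE7_39 i (by omega) h40
  by_cases h41 : i < 41
  · exact Tb.rows_ok rowsE7_40 i (by omega) h41
  by_cases h42 : i < 42
  · exact Tb.rows_ok rowsE7_41 i (by omega) h42
  by_cases h43 : i < 43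
  · exact Tb.rows_ok rowsE7_42 i (by omega) h43
  by_cases h44 : i < 44
  · exact Tb.rows_ok rowsE7_43 i (by omega) h44
  by_cases h45 : i < 45
  · exact Tb.rows_ok rowsE7_44 i (by omega) h45
  by_cases h46 : i < 46
  · exact Tb.rows_ok rowsE7_45 i (by omega) h46
  by_cases h47 : i < 47
  · exact Tb.rows_ok rowsE7_46 i (by omega) h47
  by_cases h48 : i < 48
  · exact Tb.rows_ok rowsE7_47 i (by omega) h48
  by_cases h49 : i < 49
  · exact Tb.rows_ok rowsE7_48 i (by omega) h49
  by_cases h50 : i < 50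
  · exact Tb.rows_ok rowsE7_49 i (by omega) h50
  by_cases h51 : i < 51
  · exact Tb.rows_ok rowsE7_50 i (by omega) h51
  by_cases h52 : i < 52
  · exact Tb.rows_ok rowsE7_51 i (by omega) h52
  by_cases h53 : i < 53
  · exact Tb.rows_ok rowsE7_52 i (by omega) h53
  by_cases h54 : i < 54
  · exact Tb.rows_ok rowsE7_53 i (by omega) h54
  by_cases h55 : i < 55
  · exact Tb.rows_ok rowsE7_54 i (by omega) h55
  by_cases h56 : i < 56
  · exact Tb.rows_ok rowsE7_55 i (by omega) h56
  by_cases h57 : i < 57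
  · exact Tb.rows_ok rowsE7_56 i (by omega) h57
  by_cases h58 : i < 58
  · exact Tb.rows_ok rowsE7_57 i (by omega) h58
  by_cases h59 : i < 59
  · exact Tb.rows_ok rowsE7_58 i (by omega) h59
  exact Tb.rows_ok rowsE7_59 i (by omega) hK

theorem okE8 (i : ℕ) (hi : i < tE8.K) : tE8.RowOk i := by
  have hK : i < 112 := hi
  by_cases h1 : i < 1
  · exact Tb.rows_ok rowsE8_0 i (by omega) h1
  by_cases h2 : i < 2
  · exact Tb.rows_ok rowsE8_1 i (by omega) h2
  by_cases h3 : i < 3
  · exact Tb.rows_ok rowsE8_2 i (by omega) h3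
  by_cases h4 : i < 4
  · exact Tb.rows_ok rowsE8_3 i (by omega) h4
  by_cases h5 : i < 5
  · exact Tb.rows_ok rowsE8_4 i (by omega) h5
  by_cases h6 : i < 6
  · exact Tb.rows_ok rowsE8_5 i (by omega) h6
  by_cases h7 : i < 7
  · exact Tb.rows_ok rowsE8_6 i (by omega) h7
  by_cases h8 : i < 8
  · exact Tb.rows_ok rowsE8_7 i (by omega) h8
  by_cases h9 : i < 9
  · exact Tb.rows_ok rowsE8_8 i (by omega) h9
  by_cases h10 : i < 10
  · exact Tb.rows_ok rowsE8_9 i (by omega) h10
  by_cases h11 : i < 11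
  · exact Tb.rows_ok rowsE8_10 i (by omega) h11
  by_cases h12 : i < 12
  · exact Tb.rows_ok rowsE8_11 i (by omega) h12
  by_cases h13 : i < 13
  · exact Tb.rows_ok rowsE8_12 i (by omega) h13
  by_cases h14 : i < 14
  · exact Tb.rows_ok rowsE8_13 i (by omega) h14
  by_cases h15 : i < 15
  · exact Tb.rows_ok rowsE8_14 i (by omega) h15
  by_cases h16 : i < 16
  · exact Tb.rows_ok rowsE8_15 i (by omega) h16
  by_cases h17 : i < 17
  · exact Tb.rows_ok rowsE8_16 i (by omega) h17
  by_cases h18 : i < 18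
  · exact Tb.rows_ok rowsE8_17 i (by omega) h18
  by_cases h19 : i < 19
  · exact Tb.rows_ok rowsE8_18 i (by omega) h19
  by_cases h20 : i < 20
  · exact Tb.rows_ok rowsE8_19 i (by omega) h20
  by_cases h21 : i < 21
  · exact Tb.rows_ok rowsE8_20 i (by omega) h21
  by_cases h22 : i < 22
  · exact Tb.rows_ok rowsE8_21 i (by omega) h22
  by_cases h23 : i < 23
  · exact Tb.rows_ok rowsE8_22 i (by omega) h23
  by_cases h24 : i < 24
  · exact Tb.rows_ok rowsE8_23 i (by omega) h24
  by_cases h25 : i < 25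
  · exact Tb.rows_ok rowsE8_24 i (by omega) h25
  by_cases h26 : i < 26
  · exact Tb.rows_ok rowsE8_25 i (by omega) h26
  by_cases h27 : i < 27
  · exact Tb.rows_ok rowsE8_26 i (by omega) h27
  by_cases h28 : i < 28
  · exact Tb.rows_ok rowsE8_27 i (by omega) h28
  by_cases h29 : i < 29
  · exact Tb.rows_ok rowsE8_28 i (by omega) h29
  by_cases h30 : i < 30
  · exact Tb.rows_ok rowsE8_29 i (by omega) h30
  by_cases h31 : i < 31
  · exact Tb.rows_ok rowsE8_30 i (by omega) h31
  by_cases h32 : i < 32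
  · exact Tb.rows_ok rowsE8_31 i (by omega) h32
  by_cases h33 : i < 33
  · exact Tb.rows_ok rowsE8_32 i (by omega) h33
  by_cases h34 : i < 34
  · exact Tb.rows_ok rowsE8_33 i (by omega) h34
  by_cases h35 : i < 35
  · exact Tb.rows_ok rowsE8_34 i (by omega) h35
  by_cases h36 : i < 36
  · exact Tb.rows_ok rowsE8_35 i (by omega) h36
  by_cases h37 : i < 37
  · exact Tb.rows_ok rowsE8_36 i (by omega) h37
  by_cases h38 : i < 38
  · exact Tb.rows_ok rowsE8_37 i (by omega) h38
  by_cases h39 : i < 39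
  · exact Tb.rows_ok rowsE8_38 i (by omega) h39
  by_cases h40 : i < 40
  · exact Tb.rows_ok rowsE8_39 i (by omega) h40
  by_cases h41 : i < 41
  · exact Tb.rows_ok rowsE8_40 i (by omega) h41
  by_cases h42 : i < 42
  · exact Tb.rows_ok rowsE8_41 i (by omega) h42
  by_cases h43 : i < 43
  · exact Tb.rows_ok rowsE8_42 i (by omega) h43
  by_cases h44 : i < 44
  · exact Tb.rows_ok rowsE8_43 i (by omega) h44
  by_cases h45 : i < 45
  · exact Tb.rows_ok rowsE8_44 i (by omega) h45
  by_cases h46 : i < 46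
  · exact Tb.rows_ok rowsE8_45 i (by omega) h46
  by_cases h47 : i < 47
  · exact Tb.rows_ok rowsE8_46 i (by omega) h47
  by_cases h48 : i < 48
  · exact Tb.rows_ok rowsE8_47 i (by omega) h48
  by_cases h49 : i < 49
  · exact Tb.rows_ok rowsE8_48 i (by omega) h49
  by_cases h50 : i < 50
  · exact Tb.rows_ok rowsE8_49 i (by omega) h50
  by_cases h51 : i < 51
  · exact Tb.rows_ok rowsE8_50 i (by omega) h51
  by_cases h52 : i < 52
  · exact Tb.rows_ok rowsE8_51 i (by omega) h52
  by_cases h53 : i < 53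
  · exact Tb.rows_ok rowsE8_52 i (by omega) h53
  by_cases h54 : i < 54
  · exact Tb.rows_ok rowsE8_53 i (by omega) h54
  by_cases h55 : i < 55
  · exact Tb.rows_ok rowsE8_54 i (by omega) h55
  by_cases h56 : i < 56
  · exact Tb.rows_ok rowsE8_55 i (by omega) h56
  by_cases h57 : i < 57
  · exact Tb.rows_ok rowsE8_56 i (by omega) h57
  by_cases h58 : i < 58
  · exact Tb.rows_ok rowsE8_57 i (by omega) h58
  by_cases h59 : i < 59
  · exact Tb.rows_ok rowsE8_58 i (by omega) h59
  by_cases h60 : i < 60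
  · exact Tb.rows_ok rowsE8_59 i (by omega) h60
  by_cases h61 : i < 61
  · exact Tb.rows_ok rowsE8_60 i (by omega) h61
  by_cases h62 : i < 62
  · exact Tb.rows_ok rowsE8_61 i (by omega) h62
  by_cases h63 : i < 63
  · exact Tb.rows_ok rowsE8_62 i (by omega) h63
  by_cases h64 : i < 64
  · exact Tb.rows_ok rowsE8_63 i (by omega) h64
  by_cases h65 : i < 65
  · exact Tb.rows_ok rowsE8_64 i (by omega) h65
  by_cases h66 : i < 66
  · exact Tb.rows_ok rowsE8_65 i (by omega) h66
  by_cases h67 : i < 67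
  · exact Tb.rows_ok rowsE8_66 i (by omega) h67
  by_cases h68 : i < 68
  · exact Tb.rows_ok rowsE8_67 i (by omega) h68
  by_cases h69 : i < 69
  · exact Tb.rows_ok rowsE8_68 i (by omega) h69
  by_cases h70 : i < 70
  · exact Tb.rows_ok rowsE8_69 i (by omega) h70
  by_cases h71 : i < 71
  · exact Tb.rows_ok rowsE8_70 i (by omega) h71
  by_cases h72 : i < 72
  · exact Tb.rows_ok rowsE8_71 i (by omega) h72
  by_cases h73 : i < 73
  · exact Tb.rows_ok rowsE8_72 i (by omega) h73
  by_cases h74 : i < 74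
  · exact Tb.rows_ok rowsE8_73 i (by omega) h74
  by_cases h75 : i < 75
  · exact Tb.rows_ok rowsE8_74 i (by omega) h75
  by_cases h76 : i < 76
  · exact Tb.rows_ok rowsE8_75 i (by omega) h76
  by_cases h77 : i < 77
  · exact Tb.rows_ok rowsE8_76 i (by omega) h77
  by_cases h78 : i < 78
  · exact Tb.rows_ok rowsE8_77 i (by omega) h78
  by_cases h79 : i < 79
  · exact Tb.rows_ok rowsE8_78 i (by omega) h79
  by_cases h80 : i < 80
  · exact Tb.rows_ok rowsE8_79 i (by omega) h80
  by_cases h81 : i < 81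
  · exact Tb.rows_ok rowsE8_80 i (by omega) h81
  by_cases h82 : i < 82
  · exact Tb.rows_ok rowsE8_81 i (by omega) h82
  by_cases h83 : i < 83
  · exact Tb.rows_ok rowsE8_82 i (by omega) h83
  by_cases h84 : i < 84
  · exact Tb.rows_ok rowsE8_83 i (by omega) h84
  by_cases h85 : i < 85
  · exact Tb.rows_ok rowsE8_84 i (by omega) h85
  by_cases h86 : i < 86
  · exact Tb.rows_ok rowsE8_85 i (by omega) h86
  by_cases h87 : i < 87
  · exact Tb.rows_ok rowsE8_86 i (by omega) h87
  by_cases h88 : i < 88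
  · exact Tb.rows_ok rowsE8_87 i (by omega) h88
  by_cases h89 : i < 89
  · exact Tb.rows_ok rowsE8_88 i (by omega) h89
  by_cases h90 : i < 90
  · exact Tb.rows_ok rowsE8_89 i (by omega) h90
  by_cases h91 : i < 91
  · exact Tb.rows_ok rowsE8_90 i (by omega) h91
  by_cases h92 : i < 92
  · exact Tb.rows_ok rowsE8_91 i (by omega) h92
  by_cases h93 : i < 93
  · exact Tb.rows_ok rowsE8_92 i (by omega) h93
  by_cases h94 : i < 94
  · exact Tb.rows_ok rowsE8_93 i (by omega) h94
  by_cases h95 : i < 95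
  · exact Tb.rows_ok rowsE8_94 i (by omega) h95
  by_cases h96 : i < 96
  · exact Tb.rows_ok rowsE8_95 i (by omega) h96
  by_cases h97 : i < 97
  · exact Tb.rows_ok rowsE8_96 i (by omega) h97
  by_cases h98 : i < 98
  · exact Tb.rows_ok rowsE8_97 i (by omega) h98
  by_cases h99 : i < 99
  · exact Tb.rows_ok rowsE8_98 i (by omega) h99
  by_cases h100 : i < 100
  · exact Tb.rows_ok rowsE8_99 i (by omega) h100
  by_cases h101 : i < 101
  · exact Tb.rows_ok rowsE8_100 i (by omega) h101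
  by_cases h102 : i < 102
  · exact Tb.rows_ok rowsE8_101 i (by omega) h102
  by_cases h103 : i < 103
  · exact Tb.rows_ok rowsE8_102 i (by omega) h103
  by_cases h104 : i < 104
  · exact Tb.rows_ok rowsE8_103 i (by omega) h104
  by_cases h105 : i < 105
  · exact Tb.rows_ok rowsE8_104 i (by omega) h105
  by_cases h106 : i < 106
  · exact Tb.rows_ok rowsE8_105 i (by omega) h106
  by_cases h107 : i < 107
  · exact Tb.rows_ok rowsE8_106 i (by omega) h107
  by_cases h108 : i < 108
  · exact Tb.rows_ok rowsE8_107 i (by omega) h108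
  by_cases h109 : i < 109
  · exact Tb.rows_ok rowsE8_108 i (by omega) h109
  by_cases h110 : i < 110
  · exact Tb.rows_ok rowsE8_109 i (by omega) h110
  by_cases h111 : i < 111
  · exact Tb.rows_ok rowsE8_110 i (by omega) h111
  exact Tb.rows_ok rowsE8_111 i (by omega) hK

theorem tsE7 : Ts 7 (cT 2 7) := fun l π h => autE7 π h ▸ Tb.cu_of (T := tE7) (π := 1) basE7 (by decide +kernel)
  (fun _ _ => rfl) carE7 okE7 clsE7 allE7 l

theorem tsE8 : Ts 8 (cT 2 8) := fun l π h => autE8 π h ▸ Tb.cu_of (T := tE8) (π := 1) basE8 (by decide +kernel)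
  (fun _ _ => rfl) carE8 okE8 clsE8 allE8 l

/-- **[X]** -/
theorem boxX : BoxX := boxX_of tsE7 tsE8

/-- **[Cusp]** -/
theorem boxCusp : BoxCusp := boxCusp_X boxD4 boxX

end Cfsg.Agent.OM.Cu.T95
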