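import Cfsg.Agent.OM.Cu.Cp
import Cfsg.Agent.OM.Cu.EngX
import Cfsg.Agent.OM.Cu.TbE7a

/-!
# OM / Cu : `det (1 - x A_i)` for all classes of `W(E₆)` and `W(E₇)` (helper12)
-/

set_option autoImplicit false
set_option maxRecDepth 100000
set_option Elab.async false

namespace Cfsg.Agent.OM.Cu.Cp

open Cfsg.Agent.BZ.TA Eng Eng.Tb

theorem okE6 : tE6a.Ok (cT 2 6) ![1, 1, 1, 1, 1, 1] 1 :=
  ⟨bs_of basE6a, boxRs _ _ carE6, by decide +kernel, fun _ _ => rfl, fun i hi => rows_ok rowsE6a i (Nat.zero_le _) hi, aL_iff.1 clsE6a⟩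

theorem okE7 : tE7.Ok (cT 2 7) ![1, 1, 1, 1, 1, 1, 1] 1 :=
  ⟨bs_of basE7, boxRs _ _ carE7, by decide +kernel, fun _ _ => rfl,
    fun i hi => rows_ok rowsE7a i (Nat.zero_le _) (by rw [lenE7a]; exact hi), aL_iff.1 clsE7⟩

/-- the coefficients of `det (1 - x A_i)` -/
def cpE6 : List (List ℤ) :=
  [[1, -6, 15, -20, 15, -6, 1], [1, -4, 5, 0, -5, 4, -1], [1, -3, 3, -2, 3, -3, 1], [1, -2, -1, 4, -1, -2, 1],
  [1, -2, 1, 0, -1, 2, -1], [1, -1, -1, 0, 1, 1, -1], [1, 0, -3, 0, 3, 0, -1], [1, -1, 0, 0, 0, -1, 1],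
  [1, 0, -1, 0, -1, 0, 1], [1, 0, 0, -2, 0, 0, 1], [1, 1, -1, -2, -1, 1, 1], [1, -1, -1, 2, -1, -1, 1],
  [1, 0, 0, 0, 0, 0, -1], [1, 0, -1, 0, 1, 0, -1], [1, 1, 0, 0, 0, -1, -1], [1, 2, 2, 0, -2, -2, -1],
  [1, 1, 0, -1, 0, 1, 1], [1, -2, 3, -4, 3, -2, 1], [1, -1, 1, 0, -1, 1, -1], [1, 0, 0, 1, 0, 0, 1],
  [1, -1, 2, -1, 2, -1, 1], [1, 2, -1, -4, -1, 2, 1], [1, 2, 1, 0, -1, -2, -1], [1, 2, 2, 2, 2, 2, 1],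
  [1, 3, 6, 7, 6, 3, 1]]

theorem cpE6_0 : ∀ i < 5, cpk tE6a (0 + i) (cpE6.getD (0 + i) []) = true := by decide +kernel

theorem cpE6_5 : ∀ i < 5, cpk tE6a (5 + i) (cpE6.getD (5 + i) []) = true := by decide +kernel

theorem cpE6_10 : ∀ i < 5, cpk tE6a (10 + i) (cpE6.getD (10 + i) []) = true := by decide +kernel

theorem cpE6_15 : ∀ i < 5, cpk tE6a (15 + i) (cpE6.getD (15 + i) []) = true := by decide +kernel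

theorem cpE6_20 : ∀ i < 5, cpk tE6a (20 + i) (cpE6.getD (20 + i) []) = true := by decide +kernel

theorem cpE6_ok {i : ℕ} (hi : i < 25) : cpk tE6a i (cpE6.getD i []) = true := by
  obtain ⟨a, b, h1, h2, rfl⟩ : ∃ a b, a < 5 ∧ b < 5 ∧ i = 5 * a + b := ⟨i / 5, i % 5, by omega, by omega, by omega⟩
  interval_cases a
  exacts [cpE6_0 b h2, cpE6_5 b h2, cpE6_10 b h2, cpE6_15 b h2, cpE6_20 b h2]

/-- the coefficients of `det (1 - x A_i)` -/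
def cpE7 : List (List ℤ) :=
  [[1, -7, 21, -35, 35, -21, 7, -1], [1, -5, 9, -5, -5, 9, -5, 1], [1, -4, 6, -5, 5, -6, 4, -1], [1, -3, 1, 5, -5, -1, 3, -1],
  [1, -3, 3, -1, -1, 3, -3, 1], [1, -2, 0, 1, 1, 0, -2, 1], [1, -1, -3, 3, 3, -3, -1, 1], [1, -1, -3, 3, 3, -3, -1, 1],
  [1, -2, 1, 0, 0, -1, 2, -1], [1, -1, -1, 1, -1, 1, 1, -1], [1, -2, 0, 3, -3, 0, 2, -1], [1, -3, 5, -7, 7, -5, 3, -1],
  [1, -1, -1, 1, -1, 1, 1, -1], [1, -1, 0, -2, 2, 0, 1, -1], [1, 0, -2, -1, 1, 2, 0, -1], [1, 1, -3, -3, 3, 3, -1, -1],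
  [1, 1, -3, -3, 3, 3, -1, -1], [1, -1, 0, 0, 0, 0, -1, 1], [1, 0, -1, 0, 0, -1, 0, 1], [1, -1, -1, 1, 1, -1, -1, 1],
  [1, -2, 2, -1, -1, 2, -2, 1], [1, -1, 0, 0, 0, 0, -1, 1], [1, 0, 0, -1, -1, 0, 0, 1], [1, 0, -2, 1, 1, -2, 0, 1],
  [1, -1, 1, -1, -1, 1, -1, 1], [1, 1, -1, -1, -1, -1, 1, 1], [1, 1, -1, -1, -1, -1, 1, 1], [1, 1, 0, -2, -2, 0, 1, 1],
  [1, 2, 0, -3, -3, 0, 2, 1], [1, 3, 1, -5, -5, 1, 3, 1], [1, 0, 0, 0, 0, 0, 0, -1], [1, 0, -1, -1, 1, 1, 0, -1],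
  [1, -1, 0, 1, -1, 0, 1, -1], [1, -2, 3, -3, 3, -3, 2, -1], [1, 0, -1, 0, 0, 1, 0, -1], [1, -1, 1, -1, 1, -1, 1, -1],
  [1, -1, 0, 2, -2, 0, 1, -1], [1, 1, 0, 0, 0, 0, -1, -1], [1, 1, -1, -1, 1, 1, -1, -1], [1, 0, 0, 1, -1, 0, 0, -1],
  [1, 1, 0, 0, 0, 0, -1, -1], [1, 1, 1, 0, 0, -1, -1, -1], [1, 1, 1, 1, -1, -1, -1, -1], [1, 2, 2, 1, -1, -2, -2, -1],
  [1, 2, 0, -1, 1, 0, -2, -1], [1, 3, 3, 1, -1, -3, -3, -1], [1, 2, 3, 1, -1, -3, -2, -1], [1, 5, 9, 5, -5, -9, -5, -1],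
  [1, 1, 0, -1, -1, 0, 1, 1], [1, 0, 0, 0, 0, 0, 0, 1], [1, 0, -1, 1, 1, -1, 0, 1], [1, -1, 1, 0, 0, 1, -1, 1],
  [1, 1, 1, 1, 1, 1, 1, 1], [1, -2, 3, -1, -1, 3, -2, 1], [1, 2, 1, 0, 0, 1, 2, 1], [1, 1, 0, 2, 2, 0, 1, 1],
  [1, 2, 3, 3, 3, 3, 2, 1], [1, 3, 5, 7, 7, 5, 3, 1], [1, 4, 6, 5, 5, 6, 4, 1], [1, 7, 21, 35, 35, 21, 7, 1]]

theorem cpE7_0 : ∀ i < 5, cpk tE7 (0 + i) (cpE7.getD (0 + i) []) = true := by decide +kernel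

theorem cpE7_5 : ∀ i < 5, cpk tE7 (5 + i) (cpE7.getD (5 + i) []) = true := by decide +kernel

theorem cpE7_10 : ∀ i < 5, cpk tE7 (10 + i) (cpE7.getD (10 + i) []) = true := by decide +kernel

theorem cpE7_15 : ∀ i < 5, cpk tE7 (15 + i) (cpE7.getD (15 + i) []) = true := by decide +kernel

theorem cpE7_20 : ∀ i < 5, cpk tE7 (20 + i) (cpE7.getD (20 + i) []) = true := by decide +kernel

theorem cpE7_25 : ∀ i < 5, cpk tE7 (25 + i) (cpE7.getD (25 + i) []) = true := by decide +kernel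

theorem cpE7_30 : ∀ i < 5, cpk tE7 (30 + i) (cpE7.getD (30 + i) []) = true := by decide +kernel

theorem cpE7_35 : ∀ i < 5, cpk tE7 (35 + i) (cpE7.getD (35 + i) []) = true := by decide +kernel

theorem cpE7_40 : ∀ i < 5, cpk tE7 (40 + i) (cpE7.getD (40 + i) []) = true := by decide +kernel

theorem cpE7_45 : ∀ i < 5, cpk tE7 (45 + i) (cpE7.getD (45 + i) []) = true := by decide +kernel

theorem cpE7_50 : ∀ i < 5, cpk tE7 (50 + i) (cpE7.getD (50 + i) []) = true := by decide +kernel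

theorem cpE7_55 : ∀ i < 5, cpk tE7 (55 + i) (cpE7.getD (55 + i) []) = true := by decide +kernel

theorem cpE7_ok {i : ℕ} (hi : i < 60) : cpk tE7 i (cpE7.getD i []) = true := by
  obtain ⟨a, b, h1, h2, rfl⟩ : ∃ a b, a < 12 ∧ b < 5 ∧ i = 5 * a + b := ⟨i / 5, i % 5, by omega, by omega, by omega⟩
  interval_cases a
  exacts [cpE7_0 b h2, cpE7_5 b h2, cpE7_10 b h2, cpE7_15 b h2, cpE7_20 b h2, cpE7_25 b h2, cpE7_30 b h2, cpE7_35 b h2, cpE7_40 b h2, cpE7_45 b h2, cpE7_50 b h2, cpE7_55 b h2]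

end Cfsg.Agent.OM.Cu.Cp
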