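import Cfsg.Agent.HZ.L.X.Defs
import Cfsg.Agent.BZ.L.TA.Cl
import Cfsg.Agent.OM.Cas.Defs

/-!
# OM / Cu : the cuspidal Weyl group lemma, statements (helper63)

`f` is a function on the coset `W B`, invariant under `W`, zero at the bad elements (a non central eigenvector for a primitive
`d`-th root of one) and killed at the bad elements by the sum of the reflections of every fixed label of order `l`.  Then `f`
lives on the elements without non central eigenvalue of level `l`.  Paper proofs: `notes/OM/cusp.md`.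
-/

set_option autoImplicit false
set_option linter.unusedSectionVars false

namespace Cfsg.Agent.OM.Cu

open Cfsg Matrix Cfsg.Agent.DL Cfsg.Agent.DL.PP Cfsg.Agent.KZ.Lie Cfsg.Agent.HZ.L Cfsg.Agent.BZ.TA Cfsg.Agent.BZ.TA.Cl
open Cfsg.Agent.LV.Cl (SG sm)

section Comb

variable {R I : Type} [Fintype R] [DecidableEq R] [Fintype I] [DecidableEq I]

/-- the parameters: `d` is the order of `q` modulo `l` (modulo four if `l = 2`), `e` its order modulo `l` -/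
structure Pq (q : ℤ) (l d e : ℕ) : Prop where
  lp : l.Prime
  nd : ¬ (l : ℤ) ∣ q
  od : orderOf (q : ZMod (if l = 2 then 4 else l)) = d
  oe : orderOf (q : ZMod l) = e

/-- bad elements -/
def Bad (Ψ : RS R) (d : ℕ) (A : Mat R) : Prop := ∃ μ : ℂ, IsPrimitiveRoot μ d ∧ Eig Ψ A μ

/-- the roots of one of level `l` -/
def Lv (l e : ℕ) (μ : ℂ) : Prop := ∃ j : ℕ, IsPrimitiveRoot (μ ^ l ^ j) e

/-- no non central eigenvalue of level `l` -/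
def An (Ψ : RS R) (l e : ℕ) (A : Mat R) : Prop := ∀ μ : ℂ, Lv l e μ → ¬ Eig Ψ A μ

/-- the coset -/
def Co (Ψ : RS R) (B A : Mat R) : Prop := ∃ w ∈ WW Ψ, A = w * B

/-- `τ` modulo `l` is fixed by `q A` on the coroots -/
def Ft (Ψ : RS R) (q : ℤ) (l : ℕ) (A : Mat R) (τ : Vec R) : Prop := ∀ a ∈ Ψ, (l : ℤ) ∣ (q • (τ ᵥ* A) - τ) ⬝ᵥ a.2

/-- the roots of `τ` modulo `n` -/
def Zt (Ψ : RS R) (n : ℕ) (τ : Vec R) : RS R := {a | a ∈ Ψ ∧ (n : ℤ) ∣ τ ⬝ᵥ a.2}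

/-- the hypotheses on `f` -/
structure Hy (Ψ : RS R) (B : Mat R) (q : ℤ) (l d : ℕ) (f : Mat R → ℂ) : Prop where
  cj : ∀ u ∈ WW Ψ, ∀ A, Co Ψ B A → f (u * A) = f (A * u)
  bad : ∀ A, Co Ψ B A → Bad Ψ d A → f A = 0
  rel : ∀ A, Co Ψ B A → Bad Ψ d A → ∀ τ, Ft Ψ q l A τ → ∑ᶠ ρ ∈ rfm '' Zt Ψ l τ, f (ρ * A) = 0

/-- **the statement for one coset** -/
def Cu (l : ℕ) (Ψ : RS R) (B : Mat R) : Prop :=
  ∀ (q : ℤ) (d e : ℕ) (f : Mat R → ℂ), Pq q l d e → Hy Ψ B q l d f → ∀ A, Co Ψ B A → f A ≠ 0 → An Ψ l e A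

/-- the simple root and coroot, on the coroot lattice -/
def sp (C : Mat I) (i : I) : Vec I × Vec I := (fun j => C j i, Pi.single i 1)

/-- the Weyl group of a Cartan matrix -/
def Wc (C : Mat I) : Submonoid (Mat I) := WW (Set.range (sp C))

/-- the root system of a Cartan matrix -/
def Rc (C : Mat I) : RS I := {a | ∃ w ∈ Wc C, ∃ i, w *ᵥ (sp C i).2 = a.2 ∧ a.1 ᵥ* w = (sp C i).1}

/-- the permutation matrix, `pm π *ᵥ Pi.single j 1 = Pi.single (π j) 1` -/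
def pm (π : Equiv.Perm I) : Mat I := Matrix.of fun i j => if i = π j then 1 else 0

/-- the invariant form -/
def fm (C : Mat I) (d : I → ℤ) (β γ : Vec I) : ℤ := ∑ i, β i * d i * (γ ᵥ* C) i

/-- the basic facts -/
structure Rs (C : Mat I) (d : I → ℤ) : Prop where
  fin : (Rc C).Finite
  mem : ∀ i, sp C i ∈ Rc C
  two : ∀ a ∈ Rc C, a.1 ⬝ᵥ a.2 = 2
  neg : ∀ a ∈ Rc C, -a ∈ Rc C
  nm : ∀ w ∈ Wc C, Nm w (Rc C)
  ww : WW (Rc C) = Wc C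
  inv : ∀ w ∈ Wc C, ∃ u ∈ Wc C, u * w = 1 ∧ w * u = 1
  ext : ∀ a ∈ Rc C, ∀ b ∈ Rc C, a.2 = b.2 → a = b
  ext' : ∀ a ∈ Rc C, ∀ b ∈ Rc C, a.1 = b.1 → a = b
  top : ∀ v, Perp (Rc C) v → v = 0
  topC : ∀ y : I → ℂ, (∀ a ∈ Rc C, ev a.1 y = 0) → y = 0
  pn : ∀ a ∈ Rc C, 0 ≤ a.2 ∨ a.2 ≤ 0
  red : ∀ a ∈ Rc C, ∀ b ∈ Rc C, ∀ m n : ℤ, m ≠ 0 → m • a.2 = n • b.2 → b = a ∨ b = -a
  rf : ∀ a ∈ Rc C, ∀ b ∈ Rc C, rfm a = rfm b → b = a ∨ b = -a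
  comm : ∀ β γ, fm C d β γ = fm C d γ β
  iso : ∀ w ∈ Wc C, ∀ β γ, fm C d (w *ᵥ β) (w *ᵥ γ) = fm C d β γ
  len : ∀ a ∈ Rc C, ∃ m : ℤ, 0 < m ∧ ∀ v, fm C d a.2 v = m * (a.1 ⬝ᵥ v)
  sub : ∀ a ∈ Rc C, ∀ b ∈ Rc C, b ≠ a → 0 < a.1 ⬝ᵥ b.2 → ∃ c ∈ Rc C, c.2 = a.2 - b.2
  smp : ∀ i, ∀ a ∈ Rc C, 0 ≤ a.2 → a ≠ sp C i → 0 ≤ rfm (sp C i) *ᵥ a.2

/-- `P` identifies the pairs of `Φ` with the pairs of `Ψ` -/
structure Tr (P : Matrix R I ℤ) (Φ : RS I) (Ψ : RS R) : Prop where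
  inj : ∀ v, P *ᵥ v = 0 → v = 0
  up : ∀ a ∈ Φ, ∃ b ∈ Ψ, P *ᵥ a.2 = b.2 ∧ b.1 ᵥ* P = a.1
  dn : ∀ b ∈ Ψ, ∃ a ∈ Φ, P *ᵥ a.2 = b.2 ∧ b.1 ᵥ* P = a.1
  ext : ∀ b ∈ Ψ, ∀ b' ∈ Ψ, b.2 = b'.2 → b = b'
  nm : ∀ b ∈ Ψ, Nm (rfm b) Ψ

/-- `P` is injective modulo `l` -/
def Sat (l : ℕ) (P : Matrix R I ℤ) : Prop := ∀ β, (∀ i, (l : ℤ) ∣ (P *ᵥ β) i) → ∀ j, (l : ℤ) ∣ β j

/-- the coroot lattice is saturated at `l` -/
def Sc (l : ℕ) (Ψ : RS R) : Prop :=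
  ∀ v : Vec R, (l : ℤ) • v ∈ Submodule.span ℤ (Prod.snd '' Ψ) → v ∈ Submodule.span ℤ (Prod.snd '' Ψ)

end Comb

/-- the standard matrices -/
def cm (n : ℕ) (c : ℕ → ℕ → ℤ) : Mat (Fin n) := Matrix.of fun i j => c i j

/-- the statement for a standard type -/
def Ts (n : ℕ) (c : ℕ → ℕ → ℤ) : Prop :=
  ∀ (l : ℕ) (π : Equiv.Perm (Fin n)), (∀ i j, c (π i) (π j) = c i j) → Cu l (Rc (cm n c)) (pm π)

/-- [Rs] the basic facts hold -/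
def BoxRs : Prop := ∀ {I : Type} [Fintype I] [DecidableEq I] (C : Mat I) (d : I → ℤ), Car C d → Rs C d

/-- [Ch] an automorphism is a diagram automorphism modulo the Weyl group -/
def BoxCh : Prop := ∀ {I : Type} [Fintype I] [DecidableEq I] (C : Mat I) (d : I → ℤ) (B : Mat I), Car C d → Nm B (Rc C) →
  ∃ w ∈ Wc C, ∃ π : Equiv.Perm I, (∀ i j, C (π i) (π j) = C i j) ∧ B = w * pm π

/-- [Tr] transport -/
def BoxTr : Prop := ∀ {R I : Type} [Fintype R] [DecidableEq R] [Fintype I] [DecidableEq I] (C : Mat I) (d : I → ℤ)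
  (P : Matrix R I ℤ) (Ψ : RS R) (B : Mat I) (B' : Mat R) (l : ℕ), Car C d → Tr P (Rc C) Ψ → B' * P = P * B → Nm B' Ψ →
  Nm B (Rc C) ∧ (Cu l Ψ B' → Cu l (Rc C) B) ∧ (Sat l P → Cu l (Rc C) B → Cu l Ψ B')

/-- [Orb] reduction to one component -/
def BoxOrb : Prop := ∀ l : ℕ, (∀ {I : Type} [Fintype I] [DecidableEq I] [Nonempty I] (C : Mat I) (d : I → ℤ) (B : Mat I), Car C d →
    (∀ i j, Cp C i j) → Nm B (Rc C) → Cu l (Rc C) B) →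
  ∀ {I : Type} [Fintype I] [DecidableEq I] (C : Mat I) (d : I → ℤ) (B : Mat I), Car C d → Nm B (Rc C) → Cu l (Rc C) B

/-- [Cl] the classification with all types -/
def BoxCl2 : Prop := ∀ {I : Type} [Fintype I] [DecidableEq I] [Nonempty I] (C : Mat I) (d : I → ℤ), Car C d → (∀ i j, Cp C i j) →
  (∃ n, Ty C n cA) ∨ (∃ n, 2 ≤ n ∧ Ty C n (cB n)) ∨ (∃ n, 2 ≤ n ∧ Ty C n (cC n)) ∨ (∃ n, 4 ≤ n ∧ Ty C n (cT (n - 3) n)) ∨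
    Ty C 6 (cT 2 6) ∨ Ty C 7 (cT 2 7) ∨ Ty C 8 (cT 2 8) ∨ Ty C 4 (cF (-1) (-2)) ∨ Ty C 2 (c2 (-1) (-3))

/-- [Re] from the standard index set to any index set -/
def BoxRe : Prop := ∀ (n : ℕ) (c : ℕ → ℕ → ℤ), Ts n c → ∀ {I : Type} [Fintype I] [DecidableEq I] (C : Mat I) (d : I → ℤ) (B : Mat I)
  (l : ℕ), Car C d → Ty C n c → Nm B (Rc C) → Cu l (Rc C) B

/-- [SA] permutation matrices -/
def BoxSA : Prop := ∀ (l n : ℕ) (ε : ℤˣ), Cu l (std .D fun _ : Fin n => 1) ((ε : ℤ) • 1)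

/-- [SB] signed permutation matrices -/
def BoxSB : Prop := ∀ (l n : ℕ) (κ : HZ.L.Kd) (g : SG n), 2 ≤ n → Cu l (std κ (X.b0 n)) (sm g)

/-- [A] -/
def BoxA : Prop := ∀ n, Ts n cA

/-- [B] -/
def BoxB : Prop := ∀ n, 2 ≤ n → Ts n (cB n) ∧ Ts n (cC n)

/-- [D4] triality -/
def BoxD4 : Prop := ∀ (l : ℕ) (π : Equiv.Perm (Fin 4)), π ^ 3 = 1 → π ≠ 1 → (∀ i j, cT 1 4 (π i) (π j) = cT 1 4 i j) →
  Cu l (Rc (cm 4 (cT 1 4))) (pm π)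

/-- [D] -/
def BoxD : Prop := ∀ n, 4 ≤ n → Ts n (cT (n - 3) n)

/-- [X] the exceptional types -/
structure BoxX : Prop where
  g2 : Ts 2 (c2 (-1) (-3))
  f4 : Ts 4 (cF (-1) (-2))
  e6 : Ts 6 (cT 2 6)
  e7 : Ts 7 (cT 2 7)
  e8 : Ts 8 (cT 2 8)

/-- [Eig] eigenvalues of level `l` and determinants -/
structure BoxEig : Prop where
  one : ∀ {I : Type} [Fintype I] [DecidableEq I] (A : Mat I) (q : ℤ) (l d e : ℕ) (μ : ℂ) (y : I → ℂ), Pq q l d e → Lv l e μ →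
    y ≠ 0 → IsE A μ y → (l : ℤ) ∣ (q • A - 1).det
  two : ∀ {I : Type} [Fintype I] [DecidableEq I] (A : Mat I) (q : ℤ) (l d e n : ℕ), Pq q l d e → 0 < n → A ^ n = 1 →
    (l : ℤ) ∣ (q • A - 1).det → ∃ (μ : ℂ) (y : I → ℂ), Lv l e μ ∧ y ≠ 0 ∧ IsE A μ y
  wit : ∀ {I : Type} [Fintype I] [DecidableEq I] (A : Mat I) (d : ℕ) (v : Vec I), 0 < d → v ≠ 0 →
    Polynomial.aeval A (Polynomial.cyclotomic d ℤ) *ᵥ v = 0 → ∃ (μ : ℂ) (y : I → ℂ), IsPrimitiveRoot μ d ∧ y ≠ 0 ∧ IsE A μ y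

/-- [Base] a base of the roots of a label -/
def BoxBase : Prop := ∀ {I : Type} [Fintype I] [DecidableEq I] (C : Mat I) (d : I → ℤ) (n : ℕ) (τ : Vec I), Car C d →
  ∃ (m : ℕ) (C' : Mat (Fin m)) (d' : Fin m → ℤ) (P : Matrix I (Fin m) ℤ), Car C' d' ∧ Tr P (Rc C') (Zt (Rc C) n τ)

/-- [Sat] no torsion prime to the order of the label -/
def BoxSat : Prop := ∀ {I : Type} [Fintype I] [DecidableEq I] (C : Mat I) (d : I → ℤ) (n l : ℕ) (τ : Vec I), Car C d → l.Prime →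
  ¬ l ∣ n → Sc l (Zt (Rc C) n τ)

/-- [Lang] fixed points of the adjoint dual torus lift -/
def BoxLang : Prop := ∀ {R : Type} [Fintype R] [DecidableEq R] (Ψ : RS R) (A : Mat R) (q : ℤ) (l n : ℕ) (τ : Vec R), l.Prime → 1 < q →
  0 < n → A ^ n = 1 → Nm A Ψ → Sc l Ψ → Ft Ψ q l A τ →
  ∃ t : Lb R, (∃ i : ℕ, t ^ l ^ i = 1) ∧ HZ.L.Tl (q • A) t t ∧ ∀ a ∈ Ψ, (chr a.2 t = 1 ↔ (l : ℤ) ∣ τ ⬝ᵥ a.2)

/-- [Dat] the roots of a datum -/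
def BoxDt : Prop := ∀ (p : ℕ) [Fact p.Prime], HZ.L.AllD p fun D =>
  ∃ (m : ℕ) (C : Mat (Fin m)) (d : Fin m → ℤ) (P : Matrix D.R (Fin m) ℤ), Car C d ∧ Tr P (Rc C) (rts D)

/-- [Cen] the elements of the torus of order a power of `l` are central -/
def BoxCen : Prop := ∀ (p : ℕ) [Fact p.Prime], HZ.L.AllD p fun D => ∀ j B, HZ.L.St D j B → ∀ l d e, Pq ((p : ℤ) ^ j) l d e → ∀ w,
  An (rts D) l e (D.Wm w * B) → ∀ (i : ℕ) (x : Vec D.R), (∀ s, (l : ℤ) ^ i ∣ ((D.Wm w * D.Mx - 1) *ᵥ x) s) →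
  ∀ a ∈ rts D, (l : ℤ) ^ i ∣ a.1 ⬝ᵥ x

/-- the statement for all Cartan matrices -/
def CuAll : Prop := ∀ {I : Type} [Fintype I] [DecidableEq I] (C : Mat I) (d : I → ℤ) (B : Mat I) (l : ℕ), Car C d → Nm B (Rc C) →
  Cu l (Rc C) B

/-- **the aim** -/
def BoxCusp : Prop := ∀ (p : ℕ) [Fact p.Prime], HZ.L.AllD p fun D => ∀ j B, HZ.L.St D j B → ∀ l d e, Pq ((p : ℤ) ^ j) l d e →
  Sc l (rts D) → ∀ [Fintype D.W] (c : Lbl D), Fo l c → ∀ y : D.W → ℂ,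
    (∀ v w w', Fx D w c → Tc D v w w' → Rel D v c c → y w = y w') →
    (∀ w, Fx D w c → Bad (rts D) d (D.Wm w * B) → y w = 0) →
    (∀ w t, Fx D w c → Bad (rts D) d (D.Wm w * B) → (∃ i : ℕ, t ^ l ^ i = 1) → Fx D w t → Cas.cas D (c * t) y w = 0) →
    ∀ w, Fx D w c → y w ≠ 0 → An (X.Zc (rts D) c) l e (D.Wm w * B) ∧ (X.Isol (rts D) c → An (rts D) l e (D.Wm w * B))

end Cfsg.Agent.OM.Cu
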