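import Cfsg.Agent.OM.Cu.Defs

/-!
# OM / Cu : the class table engine, the checker (helper55)

A vector modulo `NN` is one number with fields of 136 bits.  All tables are numbers with fields of fixed width.
-/

set_option autoImplicit false

namespace Cfsg.Agent.OM.Cu.Eng

/-- the modulus `210 * 2 ^ 128` -/
def NN : ℕ := 71459297053397077327308667560671324405760

/-- `NN - 1` -/
def NM : ℕ := 71459297053397077327308667560671324405759

/-- `2 ^ 136` -/
def BB : ℕ := 87112285931760246646623899502532662132736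

/-- evaluate first -/
noncomputable def fc {α : Type} (x : ℕ) (f : ℕ → α) : α := Nat.rec (f 0) (fun m _ => f (Nat.succ m)) x

/-- for all `i < n` -/
noncomputable def aL (f : ℕ → Bool) (n : ℕ) : Bool := Nat.rec true (fun i ih => and (f i) ih) n

/-- for some `i < n` -/
noncomputable def eL (f : ℕ → Bool) (n : ℕ) : Bool := Nat.rec false (fun i ih => or (f i) ih) n

/-- the sum over `i < n` -/
noncomputable def sL (f : ℕ → ℕ) (n : ℕ) : ℕ := Nat.rec 0 (fun i ih => Nat.add (f i) ih) n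

/-- the sum over `i < n` -/
noncomputable def zL (f : ℕ → ℤ) (n : ℕ) : ℤ := Nat.rec 0 (fun i ih => f i + ih) n

/-- the field `j` of width `k` -/
def fd (k X j : ℕ) : ℕ := Nat.mod (Nat.shiftRight X (Nat.mul k j)) (Nat.pow 2 k)

/-- the coordinate `j` -/
def dg (V j : ℕ) : ℕ := Nat.mod (Nat.shiftRight V (Nat.mul 136 j)) BB

/-- the vector with the coordinates `g j` -/
noncomputable def pk (g : ℕ → ℕ) (n : ℕ) : ℕ := sL (fun j => Nat.shiftLeft (Nat.mod (g j) NN) (Nat.mul 136 j)) n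

/-- the tables -/
structure Tb where
  /-- the rank, at most 8 -/
  n : ℕ
  /-- the number of the classes, at most 256 -/
  K : ℕ
  /-- the number of the positive roots -/
  R : ℕ
  /-- 4 bits, fields `3 i`, `3 i + 1`, `3 i + 2` : the neighbours `j` of `i`, repeated `-c j i` times, filled with `n` -/
  nb : ℕ
  /-- 4 bits, field `π j` is `j` -/
  ip : ℕ
  /-- 4 bits, field `16 t + j` : coordinate `j` of the coroot `t`; field `16 t + 8 + j` : coordinate `j` of the root `t`, plus 3 -/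
  rt : ℕ
  /-- 8 bits, field `8 t + i` : the image of the root `t` under the simple reflection `i` (anything below `R` if `t = i`) -/
  nx : ℕ
  /-- 400 bits, field `i` : the word of the class `i` (zero for `i = 0`) -/
  cw : ℕ
  /-- 8 bits, field `i` : the order of the class `i` -/
  od : ℕ
  /-- bit `8 i + d` : the class `i` has a primitive `d`-th root of one as an eigenvalue, `d = 1, 2, 3, 4, 6` -/
  bd : ℕ
  /-- 8 bits, field `R i + t` : the class of `ρ_t A_i` -/
  jt : ℕ

namespace Tb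

variable (T : Tb)

/-- coroot -/
def co (t j : ℕ) : ℕ := fd 4 T.rt (Nat.add (Nat.mul 16 t) j)

/-- root plus 3 -/
def ro (t j : ℕ) : ℕ := fd 4 T.rt (Nat.add (Nat.add (Nat.mul 16 t) 8) j)

/-- the class of `ρ_t A_i` -/
def jj (i t : ℕ) : ℕ := fd 8 T.jt (Nat.add (Nat.mul T.R i) t)

/-- bad for `d` -/
def ba (i d : ℕ) : Bool := Nat.beq (fd 1 T.bd (Nat.add (Nat.mul 8 i) d)) 1

/-- the simple reflection `i` -/
def rf (i V : ℕ) : ℕ :=
  Nat.add (Nat.sub V (Nat.shiftLeft (dg V i) (Nat.mul 136 i))) (Nat.shiftLeft (Nat.mod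
    (Nat.add (Nat.add (Nat.add (dg V (fd 4 T.nb (Nat.mul 3 i))) (dg V (fd 4 T.nb (Nat.add (Nat.mul 3 i) 1))))
      (dg V (fd 4 T.nb (Nat.add (Nat.mul 3 i) 2)))) (Nat.mul NM (dg V i))) NN) (Nat.mul 136 i))

/-- the word `w = len + 128 * ∑ x_s 8 ^ s` is the product `s_{x_{len - 1}} ⋯ s_{x_0}`; letters `≥ n` are skipped -/
noncomputable def aw (w V : ℕ) : ℕ :=
  fc (Nat.shiftRight w 7) fun W =>
    Nat.rec V (fun s ih => fc ih fun U => fc (fd 3 W s) fun i => cond (Nat.blt i T.n) (T.rf i U) U) (Nat.mod w 128)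

/-- the diagram automorphism -/
noncomputable def aB (V : ℕ) : ℕ := pk (fun i => dg V (fd 4 T.ip i)) T.n

/-- the class representative `A_i = word * B` -/
noncomputable def aA (i V : ℕ) : ℕ := fc V fun U => T.aw (fd 400 T.cw i) (T.aB U)

/-- the reflection in the root `t` -/
noncomputable def aR (t V : ℕ) : ℕ :=
  fc (Nat.mod (sL (fun j => Nat.mul (Nat.add (T.ro t j) (Nat.mul 3 NM)) (dg V j)) T.n) NN) fun y =>
    pk (fun j => Nat.add (dg V j) (Nat.mul NM (Nat.mul (T.co t j) y))) T.n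

/-- the test vector -/
noncomputable def v0 : ℕ := pk (fun j => Nat.pow 65536 j) T.n

/-- equal vectors -/
noncomputable def eqv (U V : ℕ) : Bool := fc U fun U' => fc V fun V' => aL (fun j => Nat.beq (dg U' j) (dg V' j)) T.n

/-- **one entry** : `h ρ_t A_i = A_j h`; `V` is the test vector, `U` its image under `A_i` -/
noncomputable def ent (i V U t h : ℕ) : Bool :=
  fc (T.jj i t) fun j => and (Nat.blt j T.K) (T.eqv (T.aw h (T.aR t U)) (T.aA j (T.aw h V)))

/-- **one row** : the list `L` has the words `h` of the roots `R - 1, …, 1, 0` (in this order) -/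
noncomputable def row (i : ℕ) (L : List ℕ) : Bool :=
  fc T.v0 fun V => fc (T.aA i V) fun U =>
    List.rec (motive := fun _ => ℕ → Bool) (fun m => Nat.beq m 0)
      (fun h _ ih m => Nat.rec false (fun t _ => and (T.ent i V U t h) (ih t)) m) L T.R

/-- the rows `i₀, i₀ + 1, …` -/
noncomputable def rows (L : List (List ℕ)) : ℕ → Bool :=
  List.rec (motive := fun _ => ℕ → Bool) (fun _ => true) (fun r _ ih i => and (T.row i r) (fc (Nat.succ i) ih)) L

/-- `A_i ^ s` -/
noncomputable def aP (i s V : ℕ) : ℕ := Nat.rec V (fun _ ih => T.aA i ih) s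

/-- `A_i ^ s - 1` -/
noncomputable def aD (i s V : ℕ) : ℕ :=
  fc V fun U => fc (T.aP i s U) fun X => pk (fun j => Nat.add (dg X j) (Nat.mul NM (dg U j))) T.n

/-- `∑ k < m, A_i ^ (s * k)` -/
noncomputable def aS (i s m V : ℕ) : ℕ :=
  fc V fun U => Nat.rec (pk (fun _ => 0) T.n)
    (fun _ ih => fc (T.aP i s ih) fun X => pk (fun j => Nat.add (dg X j) (dg U j)) T.n) m

/-- the part of `A_i ^ s` (of order `e * m`) of the primitive `e`-th roots of one vanishes on the test vector -/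
noncomputable def zr (i s e m : ℕ) : Bool :=
  T.eqv (T.aS i (Nat.mul s e) m (cond (Nat.beq e 1) T.v0 (cond (Nat.beq e 4) (T.aD i (Nat.mul s 2) T.v0)
    (cond (Nat.beq e 6) (T.aD i (Nat.mul s 3) (T.aD i (Nat.mul s 2) T.v0)) (T.aD i s T.v0))))) 0

/-- **one class** : the order and the bad `d` -/
noncomputable def cls (i : ℕ) : Bool :=
  fc (fd 8 T.od i) fun o => and (Nat.beq (Nat.mod 2520 o) 0) (and (T.eqv (T.aP i o T.v0) T.v0)
    (aL (fun d => or (not (T.ba i d)) (and (and (Nat.blt 0 d) (not (Nat.beq d 5)))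
      (and (Nat.beq (Nat.mod o d) 0) (not (T.zr i 1 d (Nat.div o d)))))) 7))

/-- no eigenvalue of level `l` -/
noncomputable def an (i l e : ℕ) : Bool :=
  fc (fd 8 T.od i) fun o => fc (Nat.gcd o (Nat.pow l 3)) fun s => fc (Nat.div o s) fun m =>
    or (not (Nat.beq (Nat.mod m e) 0)) (T.zr i s e (Nat.div m e))

/-- `l` divides the value of `τ` (fields of 4 bits) at the coroot `t` -/
noncomputable def zt (l τ t : ℕ) : Bool := Nat.beq (Nat.mod (sL (fun j => Nat.mul (fd 4 τ j) (T.co t j)) T.n) l) 0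

/-- **one kill** : `h` is bad, `τ` is fixed by `r A_h` modulo `l`, the class `w` is the only living class of the relation -/
noncomputable def kil (l r d D h τ w : ℕ) : Bool :=
  and (and (Nat.blt h T.K) (T.ba h d)) (and
    (aL (fun j => fc (T.aA h (pk (fun k => cond (Nat.beq k j) 1 0) T.n)) fun X => Nat.beq (Nat.mod (Nat.add
      (Nat.mul r (sL (fun k => Nat.mul (fd 4 τ k) (dg X k)) T.n)) (Nat.mul NM (fd 4 τ j))) l) 0) T.n)
    (and (aL (fun t => or (not (T.zt l τ t)) (fc (T.jj h t) fun j => or (T.ba j d) (or (Nat.beq (fd 1 D j) 1) (Nat.beq j w)))) T.R)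
      (eL (fun t => and (Nat.beq (T.jj h t) w) (T.zt l τ t)) T.R)))

/-- **one residue** : the kills `(h, τ, w)` in their order; `D` : the dead classes -/
noncomputable def res (l r d e : ℕ) (L : List (ℕ × ℕ × ℕ)) : ℕ → Bool :=
  List.rec (motive := fun _ => ℕ → Bool) (fun D => aL (fun i => or (T.ba i d) (or (Nat.beq (fd 1 D i) 1) (T.an i l e))) T.K)
    (fun x _ ih D => and (T.kil l r d D x.1 x.2.1 x.2.2) (fc (Nat.lor D (Nat.shiftLeft 1 x.2.2)) ih)) L

/-- the fourteen cases `(l, r, d, e)` -/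
def cases : List (ℕ × ℕ × ℕ × ℕ) := [(2, 1, 1, 1), (2, 3, 2, 1), (3, 1, 1, 1), (3, 2, 2, 2), (5, 1, 1, 1), (5, 2, 4, 4), (5, 3, 4, 4),
  (5, 4, 2, 2), (7, 1, 1, 1), (7, 2, 3, 3), (7, 3, 6, 6), (7, 4, 3, 3), (7, 5, 6, 6), (7, 6, 2, 2)]

/-- **all residues** : `L` has the fourteen lists of kills -/
noncomputable def all (L : List (List (ℕ × ℕ × ℕ))) : Bool :=
  aL (fun x => T.res (cases.getD x (0, 0, 0, 0)).1 (cases.getD x (0, 0, 0, 0)).2.1 (cases.getD x (0, 0, 0, 0)).2.2.1
    (cases.getD x (0, 0, 0, 0)).2.2.2 (L.getD x []) 0) 14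

/-- **the Cartan matrix and the roots** -/
noncomputable def bas (c : ℕ → ℕ → ℤ) : Bool :=
  and (and (and (Nat.ble T.n 8) (Nat.ble T.n T.R)) (and (Nat.blt 0 T.K) (Nat.beq (fd 400 T.cw 0) 0))) (and
    (aL (fun i => and (aL (fun s => Nat.ble (fd 4 T.nb (3 * i + s)) T.n) 3) (aL (fun j =>
      and (decide (zL (fun s => cond (Nat.beq (fd 4 T.nb (3 * i + s)) j) 1 0) 3 + c j i = cond (Nat.beq i j) 2 0))
        (and (Nat.beq (T.co i j) (cond (Nat.beq i j) 1 0)) (decide ((T.ro i j : ℤ) = c j i + 3)))) T.n)) T.n)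
    (aL (fun t => and (or (Nat.blt t T.n) (eL (fun i => Nat.blt (fd 8 T.nx (8 * t + i)) t) T.n))
      (aL (fun i => fc (fd 8 T.nx (8 * t + i)) fun u => and (Nat.blt u T.R) (or (Nat.beq t i) (aL (fun j =>
        and (decide ((T.co u j : ℤ) = T.co t j - cond (Nat.beq i j) (zL (fun k => c k i * T.co t k) T.n) 0))
          (decide ((T.ro u j : ℤ) = T.ro t j - ((T.ro t i : ℤ) - 3) * c j i))) T.n))) T.n)) T.R))

end Tb

end Cfsg.Agent.OM.Cu.Eng
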